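import Mathlib

set_option autoImplicit false
universe u
open CategoryTheory CategoryTheory.Limits AlgebraicGeometry

namespace Groth.Agent.H98.STDExt

/-- Morphisms into a separated `Z`-scheme agreeing after a scheme-theoretically dominant map are equal. -/
lemma ext_of_isSchemeTheoreticallyDominant {W X Y Z : Scheme.{u}} {f g : X ⟶ Y}
    (s : Y ⟶ Z) [IsSeparated s] (h : f ≫ s = g ≫ s)
    (ι : W ⟶ X) [IsSchemeTheoreticallyDominant ι] (hU : ι ≫ f = ι ≫ g) : f = g := by
  let X' : Over Z := Over.mk (f ≫ s)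
  let Y' : Over Z := Over.mk s
  let U' : Over Z := Over.mk (ι ≫ f ≫ s)
  let f' : X' ⟶ Y' := Over.homMk f
  let g' : X' ⟶ Y' := Over.homMk g (h.symm)
  let ι' : U' ⟶ X' := Over.homMk ι
  have : IsSeparated Y'.hom := ‹_›
  have hc : IsClosedImmersion (equalizer.ι f' g').left := inferInstance
  have hι : ι' ≫ f' = ι' ≫ g' := by ext1; exact hU
  have hfac : (equalizer.lift ι' hι).left ≫ (equalizer.ι f' g').left = ι := by
    rw [← Over.comp_left, equalizer.lift_ι]; rfl
  have : IsIso (equalizer.ι f' g').left := by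
    refine IsClosedImmersion.isIso_iff_ker_eq_bot.mpr (le_bot_iff.mp ?_)
    refine le_trans (Scheme.Hom.le_ker_comp (equalizer.lift ι' hι).left _) ?_
    rw [hfac, Scheme.Hom.ker_eq_bot]
  rw [← cancel_epi (equalizer.ι f' g').left]
  exact congr($(equalizer.condition f' g').left)

end Groth.Agent.H98.STDExt
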