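import Mathlib

universe u v
open CategoryTheory TensorProduct

namespace Groth.Agent.H98

theorem eq_zero_of_infinite {K : Type u} {H : Type v} [Field K] [AddCommGroup H] [Module K H]
    (l : ℕ) (b : Fin (l + 1) → H)
    (h : Set.Infinite {t : K | ∑ i : Fin (l + 1), t ^ (i : ℕ) • b i = 0}) :
    b = 0 := by
  funext j
  refine (Module.forall_dual_apply_eq_zero_iff K (b j)).1 fun φ => ?_
  let p : Polynomial K := ∑ i : Fin (l + 1), Polynomial.monomial (i : ℕ) (φ (b i))
  have hp : p = 0 := by
    refine Polynomial.eq_zero_of_infinite_isRoot p (h.mono fun t ht => ?_)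
    have := congrArg φ ht
    simp only [map_sum, map_smul, smul_eq_mul, map_zero] at this
    simp only [p, Polynomial.IsRoot, Set.mem_setOf_eq, Polynomial.eval_finsetSum, Polynomial.eval_monomial]
    simpa only [mul_comm] using this
  have := congrArg (fun q => q.coeff (j : ℕ)) hp
  simpa [p, Polynomial.coeff_monomial, Fin.val_inj] using this

theorem pow_truncated {R : Type u} [CommRing R] [Algebra ℚ R]
    (r : R) (δ : ℕ) (hr : (r - 1) ^ (δ + 1) = 0) (n : ℕ) :
    r ^ n = ∑ k ∈ Finset.range (δ + 1), ((descPochhammer ℚ k).eval (n : ℚ) / (k.factorial : ℚ)) • (r - 1) ^ k := by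
  have e : ∀ k, ((descPochhammer ℚ k).eval (n : ℚ) / (k.factorial : ℚ)) • (r - 1) ^ k = (n.choose k) • (r - 1) ^ k := by
    intro k
    rw [← Nat.cast_choose_eq_descPochhammer_div, Nat.cast_smul_eq_nsmul]
  simp_rw [e]
  conv_lhs => rw [show r = (r - 1) + 1 by ring, add_pow]
  simp only [one_pow, mul_one, nsmul_eq_mul]
  rw [Finset.sum_subset (Finset.range_mono (show n + 1 ≤ n + 1 + (δ + 1) by omega)),
    Finset.sum_subset (Finset.range_mono (show δ + 1 ≤ n + 1 + (δ + 1) by omega))]
  · exact Finset.sum_congr rfl fun k _ => mul_comm _ _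
  · intro k _ hk; simp at hk
    rw [pow_eq_zero_of_le hk hr]; simp
  · intro k _ hk; simp at hk
    rw [Nat.choose_eq_zero_of_lt (by omega)]; simp

theorem stirling_expansion {R : Type u} [CommRing R] [Algebra ℚ R] (r : R) (δ : ℕ) :
    (∑ k ∈ Finset.range (δ + 1), ((k.factorial : ℚ)⁻¹ • (descPochhammer R k * Polynomial.C ((r - 1) ^ k))) =
      ∑ j ∈ Finset.range (δ + 1), Polynomial.C (∑ k ∈ Finset.range (δ + 1), ∑ u ∈ Finset.range (k + 1),
        (((-1 : ℚ) ^ (k - u) * (((descPochhammer ℤ k).coeff j : ℤ) : ℚ)) / ((u.factorial * (k - u).factorial : ℕ) : ℚ)) • r ^ u) * Polynomial.X ^ j) := by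
  ext i
  simp only [Polynomial.finsetSum_coeff, Polynomial.coeff_smul, Polynomial.coeff_mul_C, Polynomial.coeff_C_mul, Polynomial.coeff_X_pow]
  by_cases hi : i < δ + 1
  · conv_rhs => rw [Finset.sum_eq_single i (fun b _ hb => by simp [Ne.symm hb]) (fun h => absurd (Finset.mem_range.2 hi) h), if_pos rfl, mul_one]
    refine Finset.sum_congr rfl fun k hk => ?_
    rw [← descPochhammer_map (Int.castRingHom R), Polynomial.coeff_map, sub_eq_add_neg, add_pow, Finset.mul_sum, Finset.smul_sum]
    refine Finset.sum_congr rfl fun m hm => ?_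
    have hm' : m ≤ k := by simp at hm; omega
    have hq : ((-1 : ℚ) ^ (k - m) * (((descPochhammer ℤ k).coeff i : ℤ) : ℚ)) / ((m.factorial * (k - m).factorial : ℕ) : ℚ)
        = (k.factorial : ℚ)⁻¹ * ((((descPochhammer ℤ k).coeff i : ℤ) : ℚ) * ((-1) ^ (k - m) * (k.choose m : ℚ))) := by
      have := Nat.choose_mul_factorial_mul_factorial hm'
      have h' : (k.choose m : ℚ) * m.factorial * (k - m).factorial = k.factorial := by exact_mod_cast this
      push_cast
      rw [← h']
      have : (k.choose m : ℚ) ≠ 0 := by exact_mod_cast (Nat.choose_pos hm').ne'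
      field_simp
    rw [hq, ← smul_smul, Algebra.smul_def, Algebra.smul_def, Algebra.smul_def]
    simp only [map_mul, map_pow, map_neg, map_one, map_natCast, map_intCast, eq_intCast]
    ring
  · rw [Finset.sum_eq_zero, Finset.sum_eq_zero]
    · intro j hj
      simp at hj
      rw [if_neg (by omega), mul_zero]
    · intro k hk
      rw [← descPochhammer_map (Int.castRingHom R), Polynomial.coeff_map,
        Polynomial.coeff_eq_zero_of_natDegree_lt]
      · simp
      · rw [descPochhammer_natDegree]; simp at hk; omega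

theorem hasRightDual (R : Type u) [CommRing R] (M : ModuleCat.{u} R)
    [Module.Finite R M] [Module.Projective R M] : Nonempty (HasRightDual M) := by
  obtain ⟨n, f, g, -, -, hfg⟩ := Module.Finite.exists_comp_eq_id_of_projective R M
  let e : Fin n → M := fun i => f (Pi.single i 1)
  let φ : Fin n → Module.Dual R M := fun i => (LinearMap.proj i).comp g
  have hrec : ∀ m : M, ∑ i, φ i m • e i = m := by
    intro m
    conv_rhs => rw [← LinearMap.id_apply (R := R) m, ← hfg, LinearMap.comp_apply, pi_eq_sum_univ' (g m)]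
    simp [e, φ, map_sum]
  have hrec' : ∀ ψ : Module.Dual R M, ∑ i, ψ (e i) • φ i = ψ := by
    intro ψ
    ext m
    conv_rhs => rw [← hrec m]
    simp [map_sum, mul_comm]
  let c : R →ₗ[R] M ⊗[R] Module.Dual R M := LinearMap.toSpanSingleton R _ (∑ i, e i ⊗ₜ[R] φ i)
  let D : ModuleCat.{u} R := ModuleCat.of R (Module.Dual R M)
  have key2 : ∀ (x : R) (m : M), (contractLeft R M).lTensor M ((TensorProduct.assoc R M (Module.Dual R M) M) (c x ⊗ₜ[R] m)) = (x • m) ⊗ₜ[R] (1 : R) := by
    intro x m
    simp only [c, LinearMap.toSpanSingleton_apply, Finset.smul_sum, sum_tmul, map_sum]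
    rw [← hrec (x • m), sum_tmul]
    refine Finset.sum_congr rfl fun i _ => ?_
    simp [smul_tmul, ← tmul_smul, mul_comm]
  refine ⟨@HasRightDual.mk _ _ _ _ D
    ⟨ModuleCat.ofHom c, ModuleCat.ofHom (contractLeft R M), ?_, ?_⟩⟩
  · ext : 1
    refine TensorProduct.ext' fun ψ (x : R) => ?_
    change (contractLeft R M).rTensor (Module.Dual R M) ((TensorProduct.assoc R _ _ _).symm (ψ ⊗ₜ[R] c x)) = (1 : R) ⊗ₜ[R] (x • ψ)
    simp only [c, LinearMap.toSpanSingleton_apply, tmul_smul, map_smul, tmul_sum, map_sum, TensorProduct.assoc_symm_tmul, LinearMap.rTensor_tmul, contractLeft_apply]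
    congr 1
    conv_rhs => rw [← hrec' ψ, tmul_sum]
    refine Finset.sum_congr rfl fun i _ => ?_
    rw [TensorProduct.tmul_smul, TensorProduct.smul_tmul', smul_eq_mul, mul_one]
  · ext : 1
    refine TensorProduct.ext' fun (x : R) m => ?_
    refine (?_ : (contractLeft R M).lTensor M ((TensorProduct.assoc R M (Module.Dual R M) M) (c x ⊗ₜ[R] m)) = (x • m) ⊗ₜ[R] (1 : R))
    exact key2 x m

end Groth.Agent.H98
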