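import Mathlib

universe u v
open CategoryTheory AlgebraicGeometry

namespace Groth.Agent.H98

theorem projective_pi {ι : Type u} (A : ι → Type u) [∀ i, CommRing (A i)]
    (P : ι → Type u) [∀ i, AddCommGroup (P i)] [∀ i, Module (A i) (P i)]
    [∀ i, Module.Projective (A i) (P i)] (N : ℕ)
    (h : ∀ i, ∃ f : (Fin N → A i) →ₗ[A i] P i, Function.Surjective f) :
    Module.Projective (∀ i, A i) (∀ i, P i) ∧
      ∃ f : (Fin N → ∀ i, A i) →ₗ[∀ i, A i] (∀ i, P i), Function.Surjective f := by
  choose f hf using h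
  choose g hg using fun i => Module.projective_lifting_property (f i) LinearMap.id (hf i)
  let F : (Fin N → ∀ i, A i) →ₗ[∀ i, A i] (∀ i, P i) :=
    { toFun := fun x i => f i (fun j => x j i)
      map_add' := fun x y => funext fun i => (f i).map_add _ _
      map_smul' := fun c x => funext fun i => (f i).map_smul (c i) _ }
  let G : (∀ i, P i) →ₗ[∀ i, A i] (Fin N → ∀ i, A i) :=
    { toFun := fun p j i => g i (p i) j
      map_add' := fun x y => funext fun j => funext fun i => congrFun ((g i).map_add _ _) j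
      map_smul' := fun c x => funext fun j => funext fun i => congrFun ((g i).map_smul (c i) _) j }
  have e : F ∘ₗ G = LinearMap.id := by
    ext p i
    exact LinearMap.congr_fun (hg i) (p i)
  exact ⟨Module.Projective.of_split G F e, F, fun p => ⟨G p, LinearMap.congr_fun e p⟩⟩

theorem isAdicComplete_of_projective (A : Type u) [CommRing A] (I : Ideal A)
    [IsAdicComplete I A] (Q : Type u) [AddCommGroup Q] [Module A Q] [Module.Finite A Q] [Module.Projective A Q] :
    IsAdicComplete I Q := by
  obtain ⟨N, f, g, -, -, hfg⟩ := Module.Finite.exists_comp_eq_id_of_projective A Q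
  have hfg' : ∀ q, f (g q) = q := fun q => LinearMap.congr_fun hfg q
  have hcoord : ∀ (n : ℕ) (q : Q), q ∈ (I ^ n • ⊤ : Submodule A Q) → ∀ j, g q j ∈ I ^ n := by
    intro n q hq j
    refine Submodule.smul_induction_on hq (fun r hr x _ => ?_) (fun x y hx hy => ?_)
    · rw [map_smul, Pi.smul_apply, smul_eq_mul]
      exact Ideal.mul_mem_right _ _ hr
    · rw [map_add]; exact add_mem hx hy
  refine { toIsHausdorff := ?_, toIsPrecomplete := ?_ }
  · refine ⟨fun q hq => ?_⟩
    have : g q = 0 := funext fun j => IsHausdorff.haus ‹IsAdicComplete I A›.toIsHausdorff _ fun n => by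
      rw [SModEq.zero, smul_eq_mul, Ideal.mul_top]
      exact hcoord n q (SModEq.zero.1 (hq n)) j
    rw [← hfg' q, this, map_zero]
  · refine ⟨fun s hs => ?_⟩
    have hL : ∀ j, ∃ L : A, ∀ n, g (s n) j ≡ L [SMOD (I ^ n • ⊤ : Submodule A A)] := fun j =>
      IsPrecomplete.prec ‹IsAdicComplete I A›.toIsPrecomplete fun {m n} hmn => by
        rw [SModEq.sub_mem, smul_eq_mul, Ideal.mul_top]
        have := hcoord m _ (SModEq.sub_mem.1 (hs hmn)) j
        simpa using this
    choose L hL using hL
    refine ⟨f L, fun n => ?_⟩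
    rw [SModEq.sub_mem, ← hfg' (s n), ← map_sub, pi_eq_sum_univ' (g (s n) - L), map_sum]
    refine Submodule.sum_mem _ fun j _ => ?_
    rw [map_smul]
    refine Submodule.smul_mem_smul ?_ Submodule.mem_top
    simpa [SModEq.sub_mem, smul_eq_mul, Ideal.mul_top] using hL j n

theorem reduce_bijective (A : Type u) [CommRing A] (I : Ideal A)
    [IsAdicComplete I A] (P Q : Type u) [AddCommGroup P] [Module A P]
    [AddCommGroup Q] [Module A Q] [Module.Finite A Q] [Module.Projective A Q] :
    (∀ f f' : P →ₗ[A] Q, (∀ n : ℕ, f.reduceModIdeal (I ^ n) = f'.reduceModIdeal (I ^ n)) → f = f') ∧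
    (∀ g : ∀ n : ℕ, P ⧸ (I ^ n • ⊤ : Submodule A P) →ₗ[A] Q ⧸ (I ^ n • ⊤ : Submodule A Q),
      (∀ n : ℕ, AdicCompletion.transitionMap I Q (Nat.le_succ n) ∘ₗ g (n + 1) =
        g n ∘ₗ AdicCompletion.transitionMap I P (Nat.le_succ n)) →
      ∃ f : P →ₗ[A] Q, ∀ n : ℕ, f.reduceModIdeal (I ^ n) = g n) := by
  have hQ := isAdicComplete_of_projective A I Q
  constructor
  · intro f f' h
    apply DFunLike.coe_injective
    apply IsHausdorff.funext I
    intro n m
    exact LinearMap.congr_fun (h n) (Submodule.Quotient.mk m)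
  · intro g hg
    have hc : ∀ {m n : ℕ} (hle : m ≤ n), Submodule.factorPow I Q hle ∘ₗ (g n ∘ₗ Submodule.mkQ _) = g m ∘ₗ Submodule.mkQ _ := by
      intro m n hle
      induction hle with
      | refl =>
        ext x
        obtain ⟨y, hy⟩ := Submodule.Quotient.mk_surjective _ (g m (Submodule.Quotient.mk x))
        simp only [LinearMap.comp_apply, Submodule.mkQ_apply]
        rw [← hy]; rfl
      | @step k hle ih =>
        rw [← ih]
        ext x
        have := LinearMap.congr_fun (hg k) (Submodule.Quotient.mk x)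
        obtain ⟨y, hy⟩ := Submodule.Quotient.mk_surjective _ (g (k + 1) (Submodule.Quotient.mk x))
        simp only [LinearMap.comp_apply, Submodule.mkQ_apply] at this ⊢
        rw [← hy] at this ⊢
        rw [show g k (Submodule.Quotient.mk x) = Submodule.Quotient.mk y from this.symm]
        rfl
    refine ⟨IsAdicComplete.lift I (fun n => g n ∘ₗ Submodule.mkQ _) hc, fun n => ?_⟩
    refine Submodule.linearMap_qext _ (LinearMap.ext fun x => ?_)
    exact IsAdicComplete.mk_lift I hc n x

theorem nilradical_pow_finrank (F A : Type u) [Field F] [CommRing A] [Algebra F A]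
    [FiniteDimensional F A] : nilradical A ^ Module.finrank F A = ⊥ := by
  have : IsNoetherianRing A := isNoetherian_of_tower F inferInstance
  set J := nilradical A
  have hnil : IsNilpotent J := IsNoetherianRing.isNilpotent_nilradical A
  have key : ∀ k, J ^ k = ⊥ ∨ Module.finrank F ((J ^ k).restrictScalars F) + k ≤ Module.finrank F A := by
    intro k
    induction k with
    | zero => right; simpa using Submodule.finrank_le _
    | succ k ih =>
      rcases ih with h | h
      · left; rw [pow_succ, h]; exact Ideal.bot_mul J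
      · rcases eq_or_ne (J ^ (k+1)) (J ^ k) with e | e
        · left
          obtain ⟨N, hN⟩ := hnil
          have : ∀ m, J ^ (k + m) = J ^ k := by
            intro m; induction m with
            | zero => rfl
            | succ m ihm => rw [← add_assoc, pow_succ, ihm, ← pow_succ, e]
          rw [e, ← this N, pow_add, hN]; simp
        · right
          have hlt : J ^ (k+1) < J ^ k := lt_of_le_of_ne (Ideal.pow_le_pow_right (by omega)) e
          have := Submodule.finrank_lt_finrank_of_lt
            (show (J ^ (k+1)).restrictScalars F < (J ^ k).restrictScalars F from hlt)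
          omega
  rcases key (Module.finrank F A) with h | h
  · exact h
  · have : (J ^ Module.finrank F A).restrictScalars F = ⊥ := Submodule.finrank_eq_zero.1 (by omega)
    simpa using this

theorem pow_eq_bot (X : Scheme.{u}) [AlgebraicGeometry.IsNoetherian X]
    [ConnectedSpace X] (I : X.IdealSheafData) (hI : I ≠ ⊤) (k : ℕ)
    (h : I ^ k = I ^ (k + 1)) : I ^ k = ⊥ := by
  rcases Nat.eq_zero_or_pos k with rfl | hk
  · exfalso
    apply hI
    simpa using h.symm
  set K := I ^ k with hK
  have hKK : K * K = K := by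
    have : ∀ m, I ^ (k + m) = K := by
      intro m; induction m with
      | zero => rfl
      | succ m ih => rw [← add_assoc, pow_succ, ih, ← pow_succ, ← h]
    rw [hK, ← pow_add, this]
  have he : ∀ U : X.affineOpens, ∃ e, IsIdempotentElem e ∧ K.ideal U = Ideal.span {e} := fun U => by
    have : IsNoetherianRing Γ(X, U.1) := IsLocallyNoetherian.component_noetherian U
    refine (Ideal.isIdempotentElem_iff_of_fg _ (IsNoetherian.noetherian _)).1 ?_
    change K.ideal U * K.ideal U = K.ideal U
    conv_rhs => rw [← hKK]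
    rfl
  choose e he1 he2 using he
  have hs : ∀ (U : X.affineOpens) x, x ∈ U.1 → (x ∈ K.support ↔ x ∉ X.basicOpen (e U)) := fun U x hx => by
    rw [Scheme.IdealSheafData.mem_support_iff_of_mem hx, he2 U, Scheme.zeroLocus_span, Scheme.mem_zeroLocus_iff]
    simp
  have hopen : IsOpen (K.support : Set X) := by
    refine isOpen_iff_forall_mem_open.2 fun x hx => ?_
    obtain ⟨_, ⟨U, hU, rfl⟩, hxU, -⟩ := X.isBasis_affineOpens.exists_subset_of_mem_open (Set.mem_univ x) isOpen_univ
    refine ⟨(X.basicOpen (1 - e ⟨U, hU⟩) : Set X), fun y hy => ?_, (X.basicOpen _).2, ?_⟩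
    · have hyU : y ∈ U := X.basicOpen_le _ hy
      rw [SetLike.mem_coe, hs ⟨U, hU⟩ y hyU]
      intro hy'
      have h2 : y ∈ X.basicOpen (e ⟨U, hU⟩ * (1 - e ⟨U, hU⟩)) := by rw [Scheme.basicOpen_mul]; exact ⟨hy', hy⟩
      rw [(he1 ⟨U, hU⟩).mul_one_sub_self, Scheme.basicOpen_zero] at h2
      exact h2.elim
    · have hnot := (hs ⟨U, hU⟩ x hxU).1 hx
      rw [Scheme.mem_basicOpen _ _ x hxU] at hnot
      rw [SetLike.mem_coe, Scheme.mem_basicOpen _ _ x hxU, map_sub, map_one]
      exact IsLocalRing.isUnit_one_sub_self_of_mem_nonunits _ hnot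
  have hne : (K.support : Set X).Nonempty := by
    rw [Set.nonempty_iff_ne_empty]
    intro hh
    apply hI
    rw [hK, Scheme.IdealSheafData.support_pow _ _ hk.ne'] at hh
    exact (Scheme.IdealSheafData.support_eq_bot_iff I).1 (TopologicalSpace.Closeds.ext hh)
  have huniv : (K.support : Set X) = Set.univ :=
    IsClopen.eq_univ ⟨K.support.2, hopen⟩ hne
  refine Scheme.IdealSheafData.ext ?_
  funext U
  rw [he2 U]
  refine Ideal.span_singleton_eq_bot.2 ?_
  have : X.basicOpen (e U) = ⊥ := by
    ext x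
    simp only [TopologicalSpace.Opens.coe_bot, Set.mem_empty_iff_false, iff_false, SetLike.mem_coe]
    intro hx
    exact (hs U x (X.basicOpen_le _ hx)).1 (by rw [← SetLike.mem_coe, huniv]; trivial) hx
  exact (he1 U).eq_zero_of_isNilpotent (isNilpotent_of_basicOpen_empty U.2 this)
where
  isNilpotent_of_basicOpen_empty {X : Scheme.{u}} {U : X.Opens} (hU : IsAffineOpen U) {f : Γ(X, U)} (h : X.basicOpen f = ⊥) : IsNilpotent f := by
    exact (AlgebraicGeometry.Scheme.isNilpotent_iff_basicOpen_eq_bot_of_isCompact hU.isCompact _).2 h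

theorem exists_pow_le_iff (A' A : Type u) [CommRing A'] [CommRing A]
    (φ : A' →+* A) (I' : Ideal A') (hI' : I'.FG) (I : Ideal A) (hle : I'.map φ ≤ I) :
    (∃ k : ℕ, (I' ^ k).map φ ≤ I ^ (k + 1)) ↔
      ∀ n : ℕ, 1 ≤ n → ∀ a ∈ I' ^ n, ∃ k : ℕ, 1 ≤ k ∧ φ a ^ k ∈ I ^ (n * k + 1) := by
  constructor
  · rintro ⟨k, hk⟩ n hn a ha
    refine ⟨k + 1, by omega, ?_⟩
    have h2 : φ a ^ (k+1) ∈ (Ideal.map φ ((I' ^ (k+1)) ^ n)) := by
      rw [← pow_mul, mul_comm, pow_mul, ← map_pow]
      exact Ideal.mem_map_of_mem _ (Ideal.pow_mem_pow ha _)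
    have h1 : Ideal.map φ (I' ^ (k+1)) ≤ I ^ (k + 2) := by
      rw [pow_succ, Ideal.map_mul, pow_succ I (k+1)]
      exact Ideal.mul_mono hk hle
    rw [Ideal.map_pow] at h2
    have := (Ideal.pow_right_mono h1 n) h2
    rw [← pow_mul] at this
    exact Ideal.pow_le_pow_right (by nlinarith) this
  · intro h
    suffices H : ∀ J : Ideal A', J.FG → J ≤ I' → ∃ k, (J.map φ) ^ k ≤ I ^ (k + 1) by
      obtain ⟨k, hk⟩ := H I' hI' le_rfl
      exact ⟨k, by rwa [Ideal.map_pow]⟩
    intro J hJ
    refine Submodule.fg_induction (motive := fun J _ => J ≤ I' → ∃ k, (Ideal.map φ J) ^ k ≤ I ^ (k + 1)) ?_ ?_ J hJ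
    · intro a ha
      obtain ⟨k, -, hk⟩ := h 1 le_rfl a (by simpa using ha)
      refine ⟨k, ?_⟩
      rw [Ideal.submodule_span_eq, Ideal.map_span, Set.image_singleton, Ideal.span_singleton_pow, Ideal.span_singleton_le_iff_mem]
      simpa using hk
    · intro J₁ J₂ _ _ ih₁ ih₂ hle'
      obtain ⟨a, ha⟩ := ih₁ (le_sup_left.trans hle')
      obtain ⟨b, hb⟩ := ih₂ (le_sup_right.trans hle')
      refine ⟨a + b, ?_⟩
      rw [Ideal.map_sup, ← Ideal.add_eq_sup, add_pow, Ideal.sum_eq_sup]
      refine Finset.sup_le fun i hi => ?_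
      have hib : i ≤ a + b := by simp at hi; omega
      refine Ideal.mul_le_left.trans ?_
      have l₁ : Ideal.map φ J₁ ≤ I := (Ideal.map_mono (le_sup_left.trans hle')).trans hle
      have l₂ : Ideal.map φ J₂ ≤ I := (Ideal.map_mono (le_sup_right.trans hle')).trans hle
      by_cases hia : a ≤ i
      · calc _ ≤ (I ^ (a+1) * I ^ (i - a)) * I ^ (a + b - i) := by
              refine Ideal.mul_mono ?_ (Ideal.pow_right_mono l₂ _)
              conv_lhs => rw [← Nat.add_sub_cancel' hia, pow_add]
              exact Ideal.mul_mono ha (Ideal.pow_right_mono l₁ _)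
          _ = _ := by rw [← pow_add, ← pow_add]; congr 1; omega
      · calc _ ≤ I ^ i * (I ^ (b + 1) * I ^ (a - i)) := by
              refine Ideal.mul_mono (Ideal.pow_right_mono l₁ _) ?_
              rw [show a + b - i = b + (a - i) by omega, pow_add]
              exact Ideal.mul_mono hb (Ideal.pow_right_mono l₂ _)
          _ = _ := by rw [← pow_add, ← pow_add]; congr 1; omega

section normal
variable (A : Type u) [CommRing A] [IsDomain A] [IsNoetherianRing A] [IsIntegrallyClosed A]

theorem dvr_at_radical (z : A) (hz0 : z ≠ 0) (q : Ideal A) [q.IsPrime] (hq : (Ideal.span {z}).radical = q) :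
    IsDiscreteValuationRing (Localization.AtPrime q) := by
  have hqm : q ∈ (Ideal.span {z}).minimalPrimes := by
    rw [← Ideal.radical_minimalPrimes, hq, Ideal.minimalPrimes_eq_subsingleton_self]; rfl
  have hdim : ringKrullDim (Localization.AtPrime q) ≤ 1 := by
    rw [IsLocalization.AtPrime.ringKrullDim_eq_height q]
    exact_mod_cast Ideal.height_le_one_of_isPrincipal_of_mem_minimalPrimes _ q hqm
  have hne : q ≠ ⊥ := fun h => hz0 (by
    have := (Ideal.le_radical (I := Ideal.span {z})) (Ideal.mem_span_singleton_self z)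
    rw [hq, h] at this; simpa using this)
  have hnf : ¬ IsField (Localization.AtPrime q) := by
    rw [IsLocalRing.isField_iff_maximalIdeal_eq, ← IsLocalization.AtPrime.map_eq_maximalIdeal q]
    exact fun h => hne ((Ideal.map_eq_bot_iff_of_injective (IsLocalization.injective _ q.primeCompl_le_nonZeroDivisors)).1 h)
  have : IsIntegrallyClosed (Localization.AtPrime q) :=
    isIntegrallyClosed_of_isLocalization _ q.primeCompl q.primeCompl_le_nonZeroDivisors
  have hmne := IsLocalRing.isField_iff_maximalIdeal_eq.not.1 hnf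
  have hT : IsDiscreteValuationRing (Localization.AtPrime q) ↔ (IsIntegrallyClosed (Localization.AtPrime q) ∧ ∃! P : Ideal (Localization.AtPrime q), P ≠ ⊥ ∧ P.IsPrime) :=
    (IsDiscreteValuationRing.TFAE _ hnf).out 0 3
  refine hT.2 ⟨inferInstance, IsLocalRing.maximalIdeal _, ⟨hmne, inferInstance⟩, ?_⟩
  rintro P ⟨hP, hPp⟩
  have : Ring.KrullDimLE 1 (Localization.AtPrime q) := by
    rwa [Ring.krullDimLE_iff]
  rcases Ring.krullDimLE_one_iff.1 this P hPp with h | h
  · rw [IsDomain.minimalPrimes_eq_singleton_bot] at h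
    exact absurd (Set.mem_singleton_iff.1 h) hP
  · exact IsLocalRing.eq_maximalIdeal h

theorem exists_eq_unit_mul_pow (z : A) (hz0 : z ≠ 0) (q : Ideal A) [q.IsPrime] (hq : (Ideal.span {z}).radical = q) :
    ∃ t ∈ q, ∀ y : A, y ≠ 0 → ∃ (n : ℕ) (a s : A), a ∉ q ∧ s ∉ q ∧ s * y = a * t ^ n := by
  have := dvr_at_radical A z hz0 q hq
  obtain ⟨ϖ, hϖ⟩ := IsDiscreteValuationRing.exists_irreducible (Localization.AtPrime q)
  obtain ⟨⟨t, u⟩, htu⟩ := IsLocalization.surj q.primeCompl ϖ
  simp only at htu
  have hu := IsLocalization.map_units (Localization.AtPrime q) u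
  refine ⟨t, ?_, fun y hy => ?_⟩
  · by_contra ht
    have := IsLocalization.map_units (Localization.AtPrime q) (⟨t, ht⟩ : q.primeCompl)
    rw [← htu] at this
    exact hϖ.not_isUnit (isUnit_of_mul_isUnit_left this)
  · have inj := IsLocalization.injective (Localization.AtPrime q) q.primeCompl_le_nonZeroDivisors
    obtain ⟨n, v, hv⟩ := IsDiscreteValuationRing.eq_unit_mul_pow_irreducible (x := algebraMap A (Localization.AtPrime q) y) (fun h => hy (inj (by simpa using h))) hϖ
    obtain ⟨⟨a, s⟩, has⟩ := IsLocalization.surj q.primeCompl (v : Localization.AtPrime q)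
    simp only at has
    refine ⟨n, a, s * (u : A) ^ n, ?_, ?_, inj ?_⟩
    · intro ha
      have h1 : IsUnit (algebraMap A (Localization.AtPrime q) a) := has ▸ v.isUnit.mul (IsLocalization.map_units _ s)
      exact (IsLocalization.AtPrime.isUnit_to_map_iff _ q a).1 h1 ha
    · exact Submonoid.mul_mem q.primeCompl s.2 (Submonoid.pow_mem _ u.2 n)
    · simp only [map_mul, map_pow, hv, ← htu, ← has]; ring

theorem exists_basicOpen_subset (z : A)
    (hz : (Ideal.span {z}).radical.IsPrime) (V : Set (PrimeSpectrum A)) (hV : IsOpen V)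
    (hVz : V ⊆ (PrimeSpectrum.basicOpen z : Set (PrimeSpectrum A))) (hne : V.Nonempty) :
    ∃ x : A, x ∉ (Ideal.span {z}).radical ∧
      ((PrimeSpectrum.basicOpen (x * z) : TopologicalSpace.Opens (PrimeSpectrum A)) :
        Set (PrimeSpectrum A)) ⊆ V := by
  obtain ⟨p, hp⟩ := hne
  obtain ⟨_, ⟨y, rfl⟩, hpy, hyV⟩ := PrimeSpectrum.isTopologicalBasis_basic_opens.exists_subset_of_mem_open hp hV
  have hz0 : z ≠ 0 := fun h => by have := hVz hp; simp [h] at this
  have hy0 : y ≠ 0 := fun h => by simp [h] at hpy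
  obtain ⟨t, ht, hu⟩ := @exists_eq_unit_mul_pow A _ _ _ _ z hz0 (Ideal.span {z}).radical hz rfl
  obtain ⟨r, a, s, ha, hs, hz'⟩ := hu z hz0
  obtain ⟨m, b, w, hb, hw, hy'⟩ := hu y hy0
  have hr : r ≠ 0 := by
    rintro rfl
    rw [pow_zero, mul_one] at hz'
    exact ha (hz' ▸ Ideal.mul_mem_left _ _ (Ideal.le_radical (Ideal.mem_span_singleton_self z)))
  refine ⟨s ^ m * b ^ r, fun h => (hz.mem_or_mem h).elim (fun h => hs (hz.mem_of_pow_mem _ h)) (fun h => hb (hz.mem_of_pow_mem _ h)), fun P hP => hyV ?_⟩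
  simp only [SetLike.mem_coe, PrimeSpectrum.mem_basicOpen] at hP ⊢
  intro hyP
  apply hP
  have e : s ^ m * b ^ r * z ^ m = w ^ r * a ^ m * y ^ r := by
    calc s ^ m * b ^ r * z ^ m = b ^ r * (s * z) ^ m := by ring
      _ = b ^ r * a ^ m * (t ^ m) ^ r := by rw [hz']; ring
      _ = a ^ m * (b * t ^ m) ^ r := by ring
      _ = _ := by rw [← hy']; ring
  have : s ^ m * b ^ r * z ^ m ∈ P.asIdeal := e ▸ Ideal.mul_mem_left _ _ (Ideal.pow_mem_of_mem _ hyP r (by omega))
  rcases P.isPrime.mem_or_mem this with h | h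
  · exact Ideal.mul_mem_right _ _ h
  · exact Ideal.mul_mem_left _ _ (P.isPrime.mem_of_pow_mem _ h)

theorem exists_away_span (z : A) (hz : (Ideal.span {z}).radical.IsPrime) :
    ∃ (w t : A) (r : ℕ), w ∉ (Ideal.span {z}).radical ∧
      Ideal.span {algebraMap A (Localization.Away w) z} =
        Ideal.span {algebraMap A (Localization.Away w) t ^ r} ∧
      (Ideal.span {algebraMap A (Localization.Away w) t}).IsPrime := by
  by_cases hz0 : z = 0
  · subst hz0
    refine ⟨1, 0, 1, fun h => hz.ne_top ((Ideal.eq_top_iff_one _).2 h), by simp, ?_⟩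
    have : IsDomain (Localization.Away (1 : A)) :=
      IsLocalization.isDomain_of_le_nonZeroDivisors (M := Submonoid.powers (1 : A)) _ (powers_le_nonZeroDivisors_of_noZeroDivisors one_ne_zero)
    simpa using Ideal.isPrime_bot
  set q := (Ideal.span {z}).radical with hq
  obtain ⟨t, ht, hu⟩ := exists_eq_unit_mul_pow A z hz0 q hq.symm
  obtain ⟨r, a, s, ha, hs, hz'⟩ := hu z hz0
  have hkill : ∀ x ∈ q, ∃ c ∉ q, c * x ∈ Ideal.span {t} := by
    intro x hx
    by_cases hx0 : x = 0
    · exact ⟨1, fun h => hz.ne_top ((Ideal.eq_top_iff_one _).2 h), by simp [hx0]⟩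
    · obtain ⟨n, b, c, hb, hc, hx'⟩ := hu x hx0
      refine ⟨c, hc, hx' ▸ ?_⟩
      rcases n with _ | n
      · rw [pow_zero, mul_one] at hx'
        exact absurd (hx' ▸ Ideal.mul_mem_left q c hx) hb
      · exact Ideal.mem_span_singleton.2 ⟨b * t ^ n, by ring⟩
  obtain ⟨S, hS⟩ := IsNoetherian.noetherian q
  classical
  choose c hc hcx using hkill
  let w₀ : A := ∏ x ∈ S.attach, c x.1 (hS ▸ Submodule.subset_span x.2)
  have hw₀ : w₀ ∉ q := fun h => by
    obtain ⟨x, -, hx⟩ := hz.prod_mem_iff.1 h
    exact hc _ _ hx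
  let w := w₀ * a * s
  have hw : w ∉ q := fun h => (hz.mem_or_mem h).elim (fun h => (hz.mem_or_mem h).elim hw₀ ha) hs
  have hwu : IsUnit (algebraMap A (Localization.Away w) w) := IsLocalization.map_units _ (⟨w, Submonoid.mem_powers _⟩ : Submonoid.powers w)
  simp only [w, map_mul, IsUnit.mul_iff] at hwu
  refine ⟨w, t, r, hw, ?_, ?_⟩
  · have : IsDomain (Localization.Away w) :=
      IsLocalization.isDomain_of_le_nonZeroDivisors (M := Submonoid.powers w) _ (powers_le_nonZeroDivisors_of_noZeroDivisors fun h => hw (h ▸ q.zero_mem))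
    rw [Ideal.span_singleton_eq_span_singleton]
    have := congrArg (algebraMap A (Localization.Away w)) hz'
    rw [map_mul, map_mul, map_pow] at this
    refine (associated_unit_mul_left _ _ hwu.2).symm.trans ?_
    rw [this]
    exact associated_unit_mul_left _ _ hwu.1.2
  · have : Ideal.span {algebraMap A (Localization.Away w) t} = q.map (algebraMap A _) := by
      refine le_antisymm ((Ideal.span_singleton_le_iff_mem _).2 (Ideal.mem_map_of_mem _ ht)) ?_
      rw [← hS, Ideal.map_span, Ideal.span_le]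
      rintro _ ⟨x, hx, rfl⟩
      have h1 := Ideal.mem_map_of_mem (algebraMap A (Localization.Away w)) (Ideal.mul_mem_left (Ideal.span {t}) (∏ y ∈ S.attach.erase ⟨x, hx⟩, c y.1 (hS ▸ Submodule.subset_span y.2)) (hcx x (hS ▸ Submodule.subset_span hx)))
      rw [Ideal.map_span, Set.image_singleton, ← mul_assoc, Finset.prod_erase_mul _ _ (Finset.mem_attach _ _), map_mul] at h1
      exact (Ideal.unit_mul_mem_iff_mem _ hwu.1.1).1 h1
    rw [this]
    refine IsLocalization.isPrime_of_isPrime_disjoint (Submonoid.powers w) _ q hz ?_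
    rw [Set.disjoint_left]
    rintro _ ⟨n, rfl⟩ h
    exact hw (hz.mem_of_pow_mem _ h)

end normal
end Groth.Agent.H98
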