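import Mathlib

universe u v
open MvPolynomial

namespace Groth.Agent.H98

theorem minusTwo_class (n : ℕ) (hn : n ≤ 8)
    (d : ℤ) (a : Fin n → ℤ) (ha : ∀ i, 0 ≤ a i)
    (hsq : d ^ 2 - ∑ i, (a i) ^ 2 = -2) (hK : 3 * d = ∑ i, a i) :
    (d = 1 ∧ (∀ i, a i = 0 ∨ a i = 1) ∧ (Finset.univ.filter (fun i => a i = 1)).card = 3) ∨
      (d = 2 ∧ (∀ i, a i = 0 ∨ a i = 1) ∧ (Finset.univ.filter (fun i => a i = 1)).card = 6) ∨
      (d = 3 ∧ n = 8 ∧ ∃ j, a j = 2 ∧ ∀ i, i ≠ j → a i = 1) := by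
  have hd0 : 0 ≤ d := by have := Finset.sum_nonneg (s := Finset.univ) (fun i _ => ha i); omega
  have hpos : ∀ i, 0 ≤ a i * (a i - 1) := fun i => by
    rcases eq_or_lt_of_le (ha i) with h | h
    · simp [← h]
    · exact mul_nonneg (ha i) (by omega)
  have hsum : ∑ i, a i * (a i - 1) = d ^ 2 + 2 - 3 * d := by
    simp only [mul_sub, mul_one, Finset.sum_sub_distrib, ← pow_two]; omega
  have h01 : d ^ 2 + 2 - 3 * d = 0 → (∀ i, a i = 0 ∨ a i = 1) ∧ ((Finset.univ.filter (fun i => a i = 1)).card : ℤ) = 3 * d := by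
    intro h
    have hA : ∀ i, a i = 0 ∨ a i = 1 := fun i => by
      have := (Finset.sum_eq_zero_iff_of_nonneg fun i _ => hpos i).1 (hsum.trans h) i (Finset.mem_univ i)
      rcases mul_eq_zero.1 this with h | h <;> omega
    refine ⟨hA, ?_⟩
    rw [hK, Finset.card_filter, Nat.cast_sum]
    refine Finset.sum_congr rfl fun i _ => ?_
    rcases hA i with h | h <;> simp [h]
  have hd4 : d ≤ 3 := by
    have hb : ∀ i, 1 ≤ (2 * a i - 3) ^ 2 := fun i => by
      rcases (show 2 * a i - 3 ≤ -1 ∨ 1 ≤ 2 * a i - 3 by omega) with h | h <;> nlinarith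
    have h1 := Finset.sum_le_sum (s := Finset.univ) (fun i _ => hb i)
    have e : ∑ i, (2 * a i - 3) ^ 2 = 4 * (d ^ 2 + 2) - 36 * d + 9 * n := by
      simp only [sub_sq, mul_pow, Finset.sum_add_distrib, Finset.sum_sub_distrib, ← Finset.mul_sum, ← Finset.sum_mul]
      simp
      linarith
    have cs : (∑ i, a i) ^ 2 ≤ (n : ℤ) * ∑ i, (a i) ^ 2 := by
      simpa using sq_sum_le_card_mul_sum_sq (s := Finset.univ) (f := a)
    have hn' : (n : ℤ) ≤ 8 := by exact_mod_cast hn
    rw [← hK, show ∑ i, (a i) ^ 2 = d ^ 2 + 2 by omega] at cs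
    have : d ^ 2 ≤ 16 := by nlinarith
    have : d ≤ 4 := by nlinarith
    rcases eq_or_lt_of_le this with h | h
    · subst h; simp at h1 e; omega
    · omega
  interval_cases d
  · have : ∀ i, a i = 0 := fun i => by
      have := (Finset.sum_eq_zero_iff_of_nonneg fun i _ => ha i).1 (by simpa using hK.symm) i (Finset.mem_univ i)
      exact this
    simp [this] at hsq
  · obtain ⟨hA, hc⟩ := h01 (by norm_num)
    exact Or.inl ⟨rfl, hA, by omega⟩
  · obtain ⟨hA, hc⟩ := h01 (by norm_num)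
    exact Or.inr (Or.inl ⟨rfl, hA, by omega⟩)
  · refine Or.inr (Or.inr ⟨rfl, ?_⟩)
    norm_num at hsum
    obtain ⟨j, -, hj⟩ : ∃ j ∈ Finset.univ, a j * (a j - 1) ≠ 0 := by
      by_contra! h
      rw [Finset.sum_eq_zero h] at hsum; omega
    have hle : a j * (a j - 1) ≤ 2 := hsum ▸ Finset.single_le_sum (fun i _ => hpos i) (Finset.mem_univ j)
    have hj2 : a j = 2 := by
      have h2 : 2 ≤ a j := by
        by_contra h
        rcases (show a j = 0 ∨ a j = 1 by have := ha j; omega) with h | h <;> simp [h] at hj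
      nlinarith
    have hrest : ∀ i, i ≠ j → a i * (a i - 1) = 0 := by
      intro i hij
      have := Finset.sum_le_sum_of_subset_of_nonneg (Finset.subset_univ {i, j}) (fun i _ _ => hpos i) (f := fun i => a i * (a i - 1))
      rw [Finset.sum_pair hij, hsum, hj2] at this
      linarith [hpos i]
    have hle1 : ∀ i ∈ Finset.univ.erase j, a i ≤ 1 := fun i hi => by
      rcases mul_eq_zero.1 (hrest i (Finset.ne_of_mem_erase hi)) with h | h <;> omega
    have hs := Finset.add_sum_erase Finset.univ a (Finset.mem_univ j)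
    have hb := Finset.sum_le_card_nsmul _ _ 1 hle1
    simp at hb
    have hn8 : n = 8 := by omega
    refine ⟨hn8, j, hj2, fun i hij => ?_⟩
    by_contra hi1
    have := Finset.sum_lt_sum hle1 ⟨i, Finset.mem_erase.2 ⟨hij, Finset.mem_univ _⟩, by have := hle1 i (Finset.mem_erase.2 ⟨hij, Finset.mem_univ _⟩); omega⟩
    simp at this
    omega

theorem locallyInvariant_iff {C : Type u} {X : Type v}
    [TopologicalSpace C] [TopologicalSpace X] [TopologicalSpace.NoetherianSpace C]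
    (c₁ c₂ : C → X) (hc₁ : Continuous c₁) (hc₂ : Continuous c₂) (Z : Set X) (hZ : IsClosed Z) :
    (∀ x ∈ Z, ∃ U : Set X, IsOpen U ∧ x ∈ U ∧
        ∀ y : C, c₂ y ∈ Z → c₂ y ∈ U → c₁ y ∈ U → c₁ y ∈ Z) ↔
      ∀ T : Set C, T ⊆ closure (c₂ ⁻¹' Z \ c₁ ⁻¹' Z) → IsIrreducible T →
        closure (c₁ '' T) ∩ closure (c₂ '' T) = ∅ := by
  constructor
  · intro h T hT hirr
    rw [Set.eq_empty_iff_forall_notMem]
    rintro x ⟨h1, h2⟩
    have hTZ : c₂ '' T ⊆ Z := Set.image_subset_iff.2 (hT.trans (closure_minimal Set.sdiff_subset (hZ.preimage hc₂)))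
    obtain ⟨U, hU, hxU, hinv⟩ := h x (closure_minimal hTZ hZ h2)
    have n1 : (T ∩ c₁ ⁻¹' U).Nonempty := by
      obtain ⟨_, hu, y, hy, rfl⟩ := mem_closure_iff.1 h1 U hU hxU; exact ⟨y, hy, hu⟩
    have n2 : (T ∩ c₂ ⁻¹' U).Nonempty := by
      obtain ⟨_, hu, y, hy, rfl⟩ := mem_closure_iff.1 h2 U hU hxU; exact ⟨y, hy, hu⟩
    obtain ⟨t, htT, ht1, ht2⟩ := hirr.2 _ _ (hU.preimage hc₁) (hU.preimage hc₂) n1 n2
    obtain ⟨y, ⟨hy1, hy2⟩, hy⟩ := mem_closure_iff.1 (hT htT) _ ((hU.preimage hc₁).inter (hU.preimage hc₂)) ⟨ht1, ht2⟩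
    exact hy.2 (hinv y hy.1 hy2 hy1)
  · intro h x _
    obtain ⟨S, hS, hS2⟩ := TopologicalSpace.NoetherianSpace.exists_finite_set_isClosed_irreducible
      (isClosed_closure (s := c₂ ⁻¹' Z \ c₁ ⁻¹' Z))
    classical
    let F : Set X := ⋃ T ∈ S, if x ∈ closure (c₁ '' T) then closure (c₂ '' T) else closure (c₁ '' T)
    refine ⟨Fᶜ, (hS.isClosed_biUnion fun T _ => by split <;> exact isClosed_closure).isOpen_compl, ?_, fun y hy hy2 hy1 => ?_⟩
    · intro hx
      simp only [F, Set.mem_iUnion] at hx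
      obtain ⟨T, hT, hx⟩ := hx
      split at hx
      · exact (Set.eq_empty_iff_forall_notMem.1 (h T (hS2.2.2 ▸ Set.subset_sUnion_of_mem hT) (hS2.2.1 T hT)) x) ⟨‹_›, hx⟩
      · exact ‹x ∉ _› hx
    · by_contra hZy
      obtain ⟨T, hT, hyT⟩ : y ∈ ⋃₀ S := hS2.2.2 ▸ subset_closure ⟨hy, hZy⟩
      have hF : ∀ z, (z ∈ if x ∈ closure (c₁ '' T) then closure (c₂ '' T) else closure (c₁ '' T)) → z ∈ F :=
        fun z hz => Set.mem_iUnion₂.2 ⟨T, hT, hz⟩
      by_cases hc : x ∈ closure (c₁ '' T)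
      · exact hy2 (hF _ (by rw [if_pos hc]; exact subset_closure ⟨y, hyT, rfl⟩))
      · exact hy1 (hF _ (by rw [if_neg hc]; exact subset_closure ⟨y, hyT, rfl⟩))

section Prym
variable {K : Type u} [Field K]

local notation "m2" => Ideal.span (Set.range (MvPolynomial.X : Fin 2 → MvPolynomial (Fin 2) K))
local notation "m3" => Ideal.span (Set.range (MvPolynomial.X : Fin 3 → MvPolynomial (Fin 3) K))

theorem mem_vars_iff {σ : Type} (p : MvPolynomial σ K) : p ∈ Ideal.span (Set.range (MvPolynomial.X : σ → MvPolynomial σ K)) ↔ constantCoeff p = 0 := by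
  rw [← MvPolynomial.idealOfVars, ← pow_one (idealOfVars σ K), mem_pow_idealOfVars_iff']
  refine ⟨fun h => h 0 (by simp), fun h x hx => ?_⟩
  rw [(Finsupp.degree_eq_zero_iff x).1 (by omega)]
  exact h

theorem mem_m2_iff (p : MvPolynomial (Fin 2) K) : p ∈ m2 ↔ constantCoeff p = 0 := mem_vars_iff p

noncomputable def surfacePoly (G₂ G₃ G₄ : MvPolynomial (Fin 2) K) : MvPolynomial (Fin 3) K :=
  MvPolynomial.rename (Fin.castSucc : Fin 2 → Fin 3) G₂ * MvPolynomial.X (2 : Fin 3) ^ 2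
        + 2 * MvPolynomial.rename (Fin.castSucc : Fin 2 → Fin 3) G₃ * MvPolynomial.X (2 : Fin 3)
        + MvPolynomial.rename (Fin.castSucc : Fin 2 → Fin 3) G₄

theorem map_rename_m2 : (m2).map (MvPolynomial.rename (Fin.castSucc : Fin 2 → Fin 3) : MvPolynomial (Fin 2) K →ₐ[K] MvPolynomial (Fin 3) K) ≤ m3 := by
  rw [Ideal.map_span, Ideal.span_le]
  rintro _ ⟨_, ⟨i, rfl⟩, rfl⟩
  rw [SetLike.mem_coe, rename_X]
  exact Ideal.subset_span ⟨_, rfl⟩

theorem surface_mem_sq_iff (h2 : (2 : K) ≠ 0) (G₂ G₃ G₄ : MvPolynomial (Fin 2) K) :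
    surfacePoly G₂ G₃ G₄ ∈ m3 ^ 2 ↔ G₃ ∈ m2 ∧ G₄ ∈ m2 ^ 2 := by
  constructor
  · intro h
    let σ : MvPolynomial (Fin 3) K →ₐ[K] MvPolynomial (Fin 2) K := MvPolynomial.aeval ![X 0, X 1, 0]
    let τ : MvPolynomial (Fin 3) K →ₐ[K] Polynomial K := MvPolynomial.aeval ![0, 0, Polynomial.X]
    have hσ : ∀ G, σ (rename (Fin.castSucc : Fin 2 → Fin 3) G) = G := fun G => by
      rw [aeval_rename, show (![X 0, X 1, 0] : Fin 3 → MvPolynomial (Fin 2) K) ∘ (Fin.castSucc : Fin 2 → Fin 3) = X by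
        funext i; fin_cases i <;> rfl, aeval_X_left_apply]
    have hτ : ∀ G, τ (rename (Fin.castSucc : Fin 2 → Fin 3) G) = Polynomial.C (constantCoeff G) := fun G => by
      rw [aeval_rename, show (![0, 0, Polynomial.X] : Fin 3 → Polynomial K) ∘ (Fin.castSucc : Fin 2 → Fin 3) = fun _ => 0 by
        funext i; fin_cases i <;> rfl, aeval_zero']
      rfl
    have h4 : G₄ ∈ m2 ^ 2 := by
      have h' := Ideal.mem_map_of_mem σ h
      rw [Ideal.map_pow] at h'
      have hle : (m3).map σ ≤ m2 := by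
        rw [Ideal.map_span, Ideal.span_le]
        rintro _ ⟨_, ⟨i, rfl⟩, rfl⟩
        fin_cases i <;> simp [σ] <;> exact Ideal.subset_span ⟨_, rfl⟩
      have := Ideal.pow_right_mono hle 2 h'
      have hz : σ (X 2) = 0 := by simp [σ]
      simpa only [surfacePoly, map_add, map_mul, map_pow, hσ, hz, mul_zero, zero_add, zero_pow (two_ne_zero)] using this
    refine ⟨?_, h4⟩
    have h' := Ideal.mem_map_of_mem τ h
    rw [Ideal.map_pow] at h'
    have hle : (m3).map τ ≤ Ideal.span {Polynomial.X} := by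
      rw [Ideal.map_span, Ideal.span_le]
      rintro _ ⟨_, ⟨i, rfl⟩, rfl⟩
      fin_cases i <;> simp [τ] <;> exact Ideal.mem_span_singleton_self _
    have := Ideal.pow_right_mono hle 2 h'
    rw [Ideal.span_singleton_pow, Ideal.mem_span_singleton, Polynomial.X_pow_dvd_iff] at this
    have := this 1 (by norm_num)
    simp only [surfacePoly, map_add, map_mul, hτ, map_ofNat, map_pow] at this
    rw [mem_m2_iff]
    simpa [τ, Polynomial.coeff_X_pow, h2, ← Polynomial.C_ofNat] using this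
  · rintro ⟨h3, h4⟩
    have hz : (X 2 : MvPolynomial (Fin 3) K) ∈ m3 := Ideal.subset_span ⟨_, rfl⟩
    refine add_mem (add_mem (Ideal.mul_mem_left _ _ (Ideal.pow_mem_pow hz 2)) ?_) ?_
    · rw [pow_two]; exact Ideal.mul_mem_mul (Ideal.mul_mem_left _ _ (map_rename_m2 (Ideal.mem_map_of_mem _ h3))) hz
    · refine Ideal.pow_right_mono map_rename_m2 2 ?_
      rw [← Ideal.map_pow]; exact Ideal.mem_map_of_mem _ h4

theorem discr_mem_sq (h2 : (2 : K) ≠ 0) (G₂ G₃ G₄ : MvPolynomial (Fin 2) K)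
    (h : surfacePoly G₂ G₃ G₄ ∈ m3 ^ 2) : G₃ ^ 2 - G₂ * G₄ ∈ m2 ^ 2 := by
  obtain ⟨h3, h4⟩ := (surface_mem_sq_iff h2 _ _ _).1 h
  exact sub_mem (Ideal.pow_mem_pow h3 2) (Ideal.mul_mem_left _ _ h4)

theorem discr_mem_sq_iff (h2 : (2 : K) ≠ 0) (G₂ G₃ G₄ : MvPolynomial (Fin 2) K)
    (hQ : surfacePoly G₂ G₃ G₄ ∈ m3) (hD : G₃ ^ 2 - G₂ * G₄ ∈ m2) :
    G₃ ^ 2 - G₂ * G₄ ∈ m2 ^ 2 ↔ (surfacePoly G₂ G₃ G₄ ∈ m3 ^ 2 ∨ (G₂ ∈ m2 ∧ G₃ ∈ m2 ∧ G₄ ∈ m2)) := by
  have h4 : G₄ ∈ m2 := by
    rw [mem_m2_iff]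
    rw [mem_vars_iff] at hQ
    simpa [surfacePoly, constantCoeff_rename] using hQ
  have h3 : G₃ ∈ m2 := by
    rw [mem_m2_iff] at hD h4 ⊢
    simpa [h4] using hD
  rw [surface_mem_sq_iff h2]
  have hs := Ideal.pow_mem_pow h3 2
  constructor
  · intro h
    have h24 : G₂ * G₄ ∈ m2 ^ 2 := by
      have := sub_mem hs h; simpa using this
    by_cases h2' : G₂ ∈ m2
    · exact Or.inr ⟨h2', h3, h4⟩
    · left
      refine ⟨h3, ?_⟩
      rw [mem_m2_iff] at h2'
      set c := constantCoeff G₂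
      have hg : G₂ - C c ∈ m2 := by rw [mem_m2_iff]; simp [c]
      have hp : C c * G₄ ∈ m2 ^ 2 := by
        have : C c * G₄ = G₂ * G₄ - (G₂ - C c) * G₄ := by ring
        rw [this]
        exact sub_mem h24 (pow_two (m2) ▸ Ideal.mul_mem_mul hg h4)
      exact (Ideal.unit_mul_mem_iff_mem _ ((Ne.isUnit h2').map C)).1 hp
  · rintro (⟨-, h⟩ | ⟨a, -, -⟩)
    · exact sub_mem hs (Ideal.mul_mem_left _ _ h)
    · exact sub_mem hs (pow_two (m2) ▸ Ideal.mul_mem_mul a h4)

end Prym

section Pinch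

theorem pinchingChart_aux (B : Type u) [CommRing B] (b : B) (f : Polynomial B)
    (hf : f = Polynomial.X ^ 2 - Polynomial.C b)
    (Ψ : MvPolynomial (Fin 2) B →ₐ[B] Polynomial (AdjoinRoot f))
    (hΨdef : Ψ = MvPolynomial.aeval (R := B) ![Polynomial.C (AdjoinRoot.root f) * Polynomial.X, Polynomial.X]) :
    RingHom.ker Ψ.toRingHom =
        Ideal.span {MvPolynomial.X 0 ^ 2 - MvPolynomial.C b * MvPolynomial.X 1 ^ 2} ∧
      ∀ G : Polynomial (AdjoinRoot f),
        (∃ c : B, G.coeff 0 = algebraMap B (AdjoinRoot f) c) → G ∈ Ψ.range := by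
  set z := AdjoinRoot.root f
  set i := algebraMap B (AdjoinRoot f)
  have hmonic : f.Monic := hf ▸ Polynomial.monic_X_pow_sub_C _ (by norm_num)
  have hz2 : z ^ 2 = i b := by
    have := AdjoinRoot.eval₂_root f
    rw [show Polynomial.eval₂ (AdjoinRoot.of f) (AdjoinRoot.root f) f = Polynomial.eval₂ (AdjoinRoot.of f) (AdjoinRoot.root f) (Polynomial.X ^ 2 - Polynomial.C b) from congrArg _ hf] at this
    simp only [Polynomial.eval₂_sub, Polynomial.eval₂_X_pow, Polynomial.eval₂_C] at this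
    exact sub_eq_zero.1 this
  have huniq : ∀ p q : B, i p + z * i q = 0 → p = 0 ∧ q = 0 := by
    intro p q h
    rcases subsingleton_or_nontrivial B with hB | hB
    · exact ⟨Subsingleton.elim _ _, Subsingleton.elim _ _⟩
    have h' : AdjoinRoot.mk f (Polynomial.C p + Polynomial.X * Polynomial.C q) = 0 := by
      rw [map_add, map_mul, AdjoinRoot.mk_C, AdjoinRoot.mk_C, AdjoinRoot.mk_X]
      exact h
    rw [AdjoinRoot.mk_eq_zero] at h'
    have hdeg : (Polynomial.C p + Polynomial.X * Polynomial.C q).degree < f.degree := by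
      rw [show f.degree = (Polynomial.X ^ 2 - Polynomial.C b).degree from congrArg _ hf, Polynomial.degree_X_pow_sub_C (by norm_num)]
      refine (Polynomial.degree_le_natDegree).trans_lt ?_
      have : (Polynomial.C p + Polynomial.X * Polynomial.C q).natDegree ≤ 1 := by compute_degree
      exact_mod_cast Nat.lt_succ_of_le this
    have h0 := (Polynomial.modByMonic_eq_self_iff hmonic).2 hdeg
    rw [(Polynomial.modByMonic_eq_zero_iff_dvd hmonic).2 h'] at h0
    exact ⟨by simpa using congrArg (Polynomial.coeff · 0) h0.symm, by simpa using congrArg (Polynomial.coeff · 1) h0.symm⟩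
  let v : Polynomial B →ₐ[B] MvPolynomial (Fin 2) B := Polynomial.aeval (X 1)
  have hΨv : ∀ p, Ψ (v p) = Polynomial.map i p := by
    intro p
    induction p using Polynomial.induction_on' with
    | add p q hp hq => simp [hp, hq]
    | monomial n r =>
      rw [← Polynomial.C_mul_X_pow_eq_monomial]
      simp [hΨdef, v, i, MvPolynomial.algebraMap_eq]
  set q : MvPolynomial (Fin 2) B := X 0 ^ 2 - C b * X 1 ^ 2
  have hq : Ψ q = 0 := by
    simp [hΨdef, q, mul_pow, ← Polynomial.C_pow, hz2, i]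
  have hΨu : Ψ (X 0) = Polynomial.C z * Polynomial.X := by simp [hΨdef, z]
  have hdec : ∀ P, ∃ p₀ p₁, P - (v p₀ + X 0 * v p₁) ∈ Ideal.span {q} := by
    intro P
    induction P using MvPolynomial.induction_on with
    | C c => exact ⟨Polynomial.C c, 0, by simp [v]⟩
    | add P Q hP hQ =>
      obtain ⟨a, b', h⟩ := hP; obtain ⟨c, d, h'⟩ := hQ
      exact ⟨a + c, b' + d, by have := add_mem h h'; convert this using 1; simp [map_add]; ring⟩
    | mul_X P k hP =>
      obtain ⟨a, c, h⟩ := hP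
      fin_cases k
      · refine ⟨Polynomial.C b * Polynomial.X ^ 2 * c, a, ?_⟩
        have := add_mem (Ideal.mul_mem_right (X 0) _ h) (Ideal.mul_mem_right (v c) _ (Ideal.mem_span_singleton_self q))
        convert this using 1
        simp [v, q, MvPolynomial.algebraMap_eq]; ring
      · refine ⟨Polynomial.X * a, Polynomial.X * c, ?_⟩
        have := Ideal.mul_mem_right (X 1) _ h
        convert this using 1
        simp [v]; ring
  constructor
  · refine le_antisymm (fun P hP => ?_) ((Ideal.span_singleton_le_iff_mem _).2 hq)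
    obtain ⟨a, c, h⟩ := hdec P
    obtain ⟨r, hr⟩ := Ideal.mem_span_singleton.1 h
    have h0 := congrArg Ψ hr
    rw [map_sub, map_mul, hq, zero_mul, show Ψ P = 0 from hP, map_add, map_mul, hΨv, hΨv, hΨu, zero_sub, neg_eq_zero] at h0
    have hcoef : ∀ n, a.coeff n = 0 ∧ (n ≠ 0 → c.coeff (n-1) = 0) := by
      intro n
      have := congrArg (Polynomial.coeff · n) h0
      rcases n with _ | n
      · simp [mul_assoc] at this
        exact ⟨(huniq _ 0 (by simpa using this)).1, fun h => absurd rfl h⟩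
      · simp [mul_assoc, Polynomial.coeff_X_mul] at this
        exact ⟨(huniq _ _ this).1, fun _ => (huniq _ _ this).2⟩
    have ha : a = 0 := Polynomial.ext fun n => by simpa using (hcoef n).1
    have hc : c = 0 := Polynomial.ext fun n => by simpa using (hcoef (n+1)).2 (by omega)
    simpa [ha, hc] using h
  · rintro G ⟨c, hc⟩
    have hsurj : ∀ w : AdjoinRoot f, ∃ p q, i p + z * i q = w := by
      intro w
      rcases subsingleton_or_nontrivial B with hB | hB
      · have : Subsingleton (AdjoinRoot f) := Module.subsingleton B _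
        exact ⟨0, 0, Subsingleton.elim _ _⟩
      obtain ⟨g, rfl⟩ := AdjoinRoot.mk_surjective w
      refine ⟨(g %ₘ f).coeff 0, (g %ₘ f).coeff 1, ?_⟩
      have : (g %ₘ f).natDegree ≤ 1 := by
        have := Polynomial.natDegree_modByMonic_lt g hmonic (by
          intro h; have := congrArg Polynomial.natDegree h; simp [hf] at this)
        simp [hf] at this ⊢; omega
      conv_rhs => rw [← Polynomial.modByMonic_add_div g f, map_add, map_mul, AdjoinRoot.mk_self, zero_mul, add_zero,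
        Polynomial.eq_X_add_C_of_natDegree_le_one this]
      simp [i, z, AdjoinRoot.algebraMap_eq]; ring
    have key : ∀ n (w : AdjoinRoot f), Polynomial.monomial (n+1) w ∈ Ψ.range := by
      intro n w
      obtain ⟨p, q', rfl⟩ := hsurj w
      refine ⟨v (Polynomial.monomial (n+1) p) + X 0 * v (Polynomial.monomial n q'), ?_⟩
      simp [hΨv, hΨu, ← Polynomial.C_mul_X_pow_eq_monomial, pow_succ]; ring
    rw [← Polynomial.sum_monomial_eq G, Polynomial.sum]
    refine Subalgebra.sum_mem _ fun n _ => ?_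
    rcases n with _ | n
    · refine ⟨C c, ?_⟩
      simp [hΨdef, hc, i, Polynomial.algebraMap_eq]
    · exact key n _

theorem pinchingChart (B : Type u) [CommRing B] (b : B) :
    letI Ψ : MvPolynomial (Fin 2) B →ₐ[B] Polynomial (AdjoinRoot (Polynomial.X ^ 2 - Polynomial.C b)) :=
      MvPolynomial.aeval
        ![Polynomial.C (AdjoinRoot.root (Polynomial.X ^ 2 - Polynomial.C b)) * Polynomial.X, Polynomial.X]
    RingHom.ker Ψ.toRingHom =
        Ideal.span {MvPolynomial.X 0 ^ 2 - MvPolynomial.C b * MvPolynomial.X 1 ^ 2} ∧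
      ∀ G : Polynomial (AdjoinRoot (Polynomial.X ^ 2 - Polynomial.C b)),
        (∃ c : B, G.coeff 0 = algebraMap B (AdjoinRoot (Polynomial.X ^ 2 - Polynomial.C b)) c) →
          G ∈ Ψ.range :=
  pinchingChart_aux B b _ rfl _ rfl

end Pinch
end Groth.Agent.H98
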