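import Mathlib

universe u
open MvPolynomial

namespace Groth.Agent.H98

section Pinch2
variable {K : Type u} [Field K]

local notation "S2" => MvPolynomial (Fin 2) K
local notation "Rp" => Algebra.adjoin K ({MvPolynomial.X 0 ^ 2, MvPolynomial.X 0 * MvPolynomial.X 1, MvPolynomial.X 1} : Set (MvPolynomial (Fin 2) K))

theorem pinch_gen : (X 0 ^ 2 : S2) ∈ Rp ∧ (X 0 * X 1 : S2) ∈ Rp ∧ (X 1 : S2) ∈ Rp :=
  ⟨Algebra.subset_adjoin (by simp), Algebra.subset_adjoin (by simp), Algebra.subset_adjoin (by simp)⟩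

theorem X_pow_mem (i : ℕ) : (X 0 : S2) ^ i * X 1 ∈ Rp := by
  obtain ⟨h1, h2, h3⟩ := pinch_gen (K := K)
  rcases Nat.even_or_odd' i with ⟨k, rfl | rfl⟩
  · rw [pow_mul]; exact mul_mem (pow_mem h1 k) h3
  · rw [show (X 0 : S2) ^ (2 * k + 1) * X 1 = (X 0 ^ 2) ^ k * (X 0 * X 1) by ring]; exact mul_mem (pow_mem h1 k) h2

theorem y_mul_mem (s : S2) : X 1 * s ∈ Rp := by
  induction s using MvPolynomial.induction_on' with
  | monomial e c =>
    have : (X 1 : S2) * monomial e c = C c * ((X 0 ^ e 0 * X 1) * X 1 ^ e 1) := by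
      rw [monomial_eq, Finsupp.prod_fintype _ _ (fun i => pow_zero _), Fin.prod_univ_two]; ring
    rw [this]
    exact mul_mem (Subalgebra.algebraMap_mem _ c) (mul_mem (X_pow_mem _) (pow_mem pinch_gen.2.2 _))
  | add p q hp hq => rw [mul_add]; exact add_mem hp hq

theorem aeval_sq_mem (g : Polynomial K) : Polynomial.aeval ((X 0 : S2) ^ 2) g ∈ Rp := by
  induction g using Polynomial.induction_on' with
  | add p q hp hq => rw [map_add]; exact add_mem hp hq
  | monomial n c => rw [Polynomial.aeval_monomial]; exact mul_mem (Subalgebra.algebraMap_mem _ c) (pow_mem pinch_gen.1 n)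

noncomputable def evLine : S2 →ₐ[K] Polynomial K := MvPolynomial.aeval ![Polynomial.X, 0]

noncomputable def liftLine : Polynomial K →ₐ[K] S2 := Polynomial.aeval (X 0)

theorem sub_liftLine (f : S2) : f - liftLine (evLine f) ∈ Ideal.span {(X 1 : S2)} := by
  rw [← Ideal.Quotient.eq]
  change Ideal.Quotient.mkₐ K _ f = ((Ideal.Quotient.mkₐ K _).comp (liftLine.comp evLine)) f
  refine AlgHom.congr_fun (MvPolynomial.algHom_ext fun i => ?_) f
  fin_cases i
  · simp [evLine, liftLine]
  · simp [evLine, liftLine, Ideal.Quotient.eq_zero_iff_mem, Ideal.mem_span_singleton_self]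

theorem evLine_liftLine (g : Polynomial K) : evLine (liftLine g : S2) = g := by
  rw [liftLine, ← Polynomial.aeval_algHom_apply]; simp [evLine]

theorem mem_Rp_iff (f : S2) : f ∈ Rp ↔ evLine f ∈ (Polynomial.expand K 2).range := by
  constructor
  · intro h
    have : Rp ≤ ((Polynomial.expand K 2).range).comap (evLine (K := K)) := by
      rw [Algebra.adjoin_le_iff]
      rintro g (rfl | rfl | rfl)
      · exact ⟨Polynomial.X, by simp [evLine]⟩
      · exact ⟨0, by simp [evLine]⟩
      · exact ⟨0, by simp [evLine]⟩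
    exact this h
  · rintro ⟨g, hg⟩
    obtain ⟨s, hs⟩ := Ideal.mem_span_singleton.1 (sub_liftLine f)
    rw [sub_eq_iff_eq_add] at hs
    rw [hs]
    refine add_mem (y_mul_mem s) ?_
    rw [← hg, show (Polynomial.expand K 2).toRingHom g = Polynomial.expand K 2 g from rfl]
    have : (liftLine (Polynomial.expand K 2 g) : S2) = Polynomial.aeval (X 0 ^ 2) g := by
      rw [liftLine, Polynomial.expand_aeval]
    rw [this]
    exact aeval_sq_mem g

theorem parity {a : Polynomial K} (h : a ∈ (Polynomial.expand K 2).range)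
    (h' : Polynomial.X * a ∈ (Polynomial.expand K 2).range) : a = 0 := by
  obtain ⟨p, hp⟩ := h
  obtain ⟨q, hq⟩ := h'
  ext n
  rcases Nat.even_or_odd' n with ⟨k, rfl | rfl⟩
  · have := congrArg (Polynomial.coeff · (2 * k + 1)) hq
    simpa [Polynomial.coeff_expand, Polynomial.coeff_X_mul] using this.symm
  · have := congrArg (Polynomial.coeff · (2 * k + 1)) hp
    simpa [Polynomial.coeff_expand] using this.symm

theorem exists_odd_split (g : Polynomial K) :
    ∃ e ∈ (Polynomial.expand K 2).range, ∃ p, g = e + Polynomial.X * Polynomial.expand K 2 p := by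
  induction g using Polynomial.induction_on' with
  | add f g hf hg =>
    obtain ⟨e, he, p, rfl⟩ := hf
    obtain ⟨e', he', p', rfl⟩ := hg
    exact ⟨e + e', add_mem he he', p + p', by simp only [map_add]; ring⟩
  | monomial n c =>
    rcases Nat.even_or_odd' n with ⟨k, rfl | rfl⟩
    · exact ⟨Polynomial.monomial (2 * k) c, ⟨Polynomial.monomial k c, by simp [mul_comm]⟩, 0, by rw [map_zero, mul_zero, add_zero]⟩
    · exact ⟨0, zero_mem _, Polynomial.monomial k c, by rw [Polynomial.expand_monomial, Polynomial.X_mul_monomial, zero_add, mul_comm]⟩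

theorem derivation_maps_iff [NeZero (2 : K)] (D : Derivation K S2 S2) :
    (∀ r ∈ Rp, D r ∈ Rp) ↔
      (D (X 1) ∈ Ideal.span {(X 1 : S2)} ∧
        ∃ (s : S2) (p : Polynomial K), D (X 0) = X 1 * s + X 0 * Polynomial.aeval ((X 0 : S2) ^ 2) p) := by
  obtain ⟨g1, g2, g3⟩ := pinch_gen (K := K)
  have h2 : (2 : K) ≠ 0 := two_ne_zero
  constructor
  · intro h
    have hy := (mem_Rp_iff _).1 (h _ g3)
    have hxy := h _ g2
    rw [Derivation.leibniz, smul_eq_mul, smul_eq_mul] at hxy
    have hxy' := (mem_Rp_iff _).1 ((add_mem_cancel_right (y_mul_mem _)).1 hxy)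
    rw [map_mul, show evLine (X 0 : S2) = Polynomial.X by simp [evLine]] at hxy'
    have hy0 := parity hy hxy'
    refine ⟨by simpa [hy0] using sub_liftLine (D (X 1)), ?_⟩
    have hxx := (mem_Rp_iff _).1 (h _ g1)
    rw [pow_two, Derivation.leibniz, smul_eq_mul, map_add, map_mul, show evLine (X 0 : S2) = Polynomial.X by simp [evLine]] at hxx
    obtain ⟨e, he, p, hp⟩ := exists_odd_split (evLine (D (X 0)))
    have hxq : Polynomial.X * evLine (D (X 0)) ∈ (Polynomial.expand K 2).range := by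
      have : Polynomial.X * evLine (D (X 0)) = (2 : K)⁻¹ • (Polynomial.X * evLine (D (X 0)) + Polynomial.X * evLine (D (X 0))) := by
        rw [← two_smul K, smul_smul, inv_mul_cancel₀ h2, one_smul]
      rw [this]
      exact Subalgebra.smul_mem _ hxx _
    rw [hp, mul_add, ← mul_assoc, ← pow_two] at hxq
    have he0 : e = 0 := by
      refine parity he ((add_mem_cancel_right ?_).1 hxq)
      exact mul_mem ⟨Polynomial.X, by simp⟩ ⟨p, rfl⟩
    obtain ⟨s, hs⟩ := Ideal.mem_span_singleton.1 (sub_liftLine (D (X 0)))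
    refine ⟨s, p, ?_⟩
    rw [sub_eq_iff_eq_add] at hs
    rw [hs, hp, he0, zero_add, map_mul]
    simp [liftLine, Polynomial.expand_aeval]
  · rintro ⟨hy, s, p, hx⟩ r hr
    obtain ⟨t, ht⟩ := Ideal.mem_span_singleton.1 hy
    induction hr using Algebra.adjoin_induction with
    | mem g hg =>
      rcases hg with rfl | rfl | rfl
      · have e : D ((X 0 : S2) ^ 2) = (X 1 * (2 * (X 0 * s)) + 2 * (X 0 ^ 2 * Polynomial.aeval ((X 0 : S2) ^ 2) p)) := by
          have e' : D ((X 0 : S2) * X 0) = X 0 * D (X 0) + X 0 * D (X 0) := D.leibniz _ _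
          calc D ((X 0 : S2) ^ 2) = X 0 * D (X 0) + X 0 * D (X 0) := (congrArg D (pow_two _)).trans e'
            _ = _ := by rw [hx]; ring
        rw [e]
        refine add_mem (y_mul_mem _) ?_
        rw [two_mul]; exact add_mem (mul_mem g1 (aeval_sq_mem p)) (mul_mem g1 (aeval_sq_mem p))
      · rw [Derivation.leibniz, smul_eq_mul, smul_eq_mul, ht]
        refine add_mem ?_ (y_mul_mem _)
        rw [show (X 0 : S2) * (X 1 * t) = X 1 * (X 0 * t) by ring]; exact y_mul_mem _
      · rw [ht]; exact y_mul_mem _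
    | algebraMap c => simp
    | add a b _ _ ha hb => rw [map_add]; exact add_mem ha hb
    | mul a b ha' hb' ha hb =>
      rw [Derivation.leibniz, smul_eq_mul, smul_eq_mul]
      exact add_mem (mul_mem ha' hb) (mul_mem hb' ha)

theorem existsUnique_extension [NeZero (2 : K)] (δ : Derivation K (Rp) S2) :
    ∃! D : Derivation K S2 S2, ∀ r : Rp, D (r : S2) = δ r := by
  obtain ⟨g1, g2, g3⟩ := pinch_gen (K := K)
  set A : Rp := ⟨_, g1⟩
  set B : Rp := ⟨_, g2⟩
  set Y : Rp := ⟨_, g3⟩
  have hrel : A * Y * Y = B * B := by ext1; simp [A, B, Y]; ring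
  have h := congrArg δ hrel
  simp only [Derivation.leibniz, Subalgebra.smul_def, smul_eq_mul, MulMemClass.coe_mul, A, B, Y] at h
  have hy0 : (X 1 : S2) ≠ 0 := X_ne_zero _
  have hx0 : (X 0 : S2) ≠ 0 := X_ne_zero _
  have h2 : (2 : S2) ≠ 0 := by
    rw [← map_ofNat (C (σ := Fin 2) (R := K))]; simp [two_ne_zero]
  have hdiv : (X 0 : S2) ∣ δ A := by
    have e : δ A * X 1 * (X 1) = (X 0 * (2 * δ B - 2 * X 0 * δ Y)) * X 1 := by
      linear_combination h
    have e' := mul_right_cancel₀ hy0 e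
    have hd : (X 0 : S2) ∣ δ A * X 1 := ⟨_, e'⟩
    rcases (X_prime (i := (0 : Fin 2))).dvd_or_dvd hd with hh | hh
    · exact hh
    · exact absurd hh (by simp)
  obtain ⟨c, hc⟩ := hdiv
  have hu : IsUnit (2 : S2) := by
    rw [← map_ofNat (C (σ := Fin 2) (R := K))]; exact (Ne.isUnit two_ne_zero).map C
  obtain ⟨a, rfl⟩ : ∃ a, c = 2 * a := ⟨(hu.unit⁻¹ : S2ˣ) * c, by rw [← mul_assoc, IsUnit.mul_val_inv, one_mul]⟩
  let D : Derivation K S2 S2 := mkDerivation K ![a, δ Y]
  have Dx : D (X 0) = a := by simp [D]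
  have Dy : D (X 1) = δ Y := by simp [D]
  have hB : δ B = X 1 * a + X 0 * δ Y := by
    have : (2 * X 0 * X 1) * δ B = (2 * X 0 * X 1) * (X 1 * a + X 0 * δ Y) := by
      linear_combination (-h) + (X 1) ^ 2 * hc
    exact mul_left_cancel₀ (mul_ne_zero (mul_ne_zero h2 hx0) hy0) this
  refine ⟨D, ?_, ?_⟩
  · rintro ⟨r, hr⟩
    induction hr using Algebra.adjoin_induction with
    | mem g hg =>
      rcases hg with rfl | rfl | rfl
      · change D ((X 0 : S2) ^ 2) = δ A
        exact (congrArg D (pow_two _)).trans ((D.leibniz _ _).trans (by rw [Dx, hc, smul_eq_mul]; ring))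
      · change D _ = δ B; rw [Derivation.leibniz, Dx, Dy, hB, smul_eq_mul, smul_eq_mul]; ring
      · exact Dy
    | algebraMap c => exact (D.map_algebraMap c).trans (δ.map_algebraMap c).symm
    | add a b ha' hb' ha hb =>
      exact (D.map_add a b).trans ((congrArg₂ (· + ·) ha hb).trans (δ.map_add ⟨a, ha'⟩ ⟨b, hb'⟩).symm)
    | mul a b ha' hb' ha hb =>
      refine (D.leibniz a b).trans (Eq.trans ?_ (δ.leibniz ⟨a, ha'⟩ ⟨b, hb'⟩).symm)
      rw [Subalgebra.smul_def, Subalgebra.smul_def]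
      exact congrArg₂ (· + ·) (congrArg _ hb) (congrArg _ ha)
  · intro E hE
    have e1 := hE A
    have e3 := hE Y
    simp only [A, Y] at e1 e3
    have e1' : (X 0 : S2) * E (X 0) + X 0 * E (X 0) = δ A :=
      ((congrArg E (pow_two _)).trans (E.leibniz _ _)).symm.trans e1
    refine derivation_ext fun i => ?_
    fin_cases i
    · refine (mul_left_cancel₀ (mul_ne_zero h2 hx0) ?_ : E (X 0) = D (X 0))
      rw [Dx]
      have hc' := hc
      simp only [A] at hc'
      simp only [A] at e1'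
      linear_combination e1' + hc'
    · exact e3.trans Dy.symm

theorem jacobianIdeal_colon (K : Type u) [Field K] [NeZero (2 : K)] (n : ℕ) :
    letI u : MvPolynomial (Fin (n + 3)) K := MvPolynomial.X 0
    letI v : MvPolynomial (Fin (n + 3)) K := MvPolynomial.X 1
    letI w : MvPolynomial (Fin (n + 3)) K := MvPolynomial.X 2
    letI Jac : Ideal (MvPolynomial (Fin (n + 3)) K) :=
      Ideal.span {u ^ 2 - v ^ 2 * w, 2 * u, -(2 * v * w), -(v ^ 2)}
    Ideal.span {u, v} = Jac ⊔ Ideal.span {v} ∧ Jac.colon (Ideal.span {v}) = Ideal.span {u, v, w} := by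
  set u : MvPolynomial (Fin (n + 3)) K := MvPolynomial.X 0
  set v : MvPolynomial (Fin (n + 3)) K := MvPolynomial.X 1
  set w : MvPolynomial (Fin (n + 3)) K := MvPolynomial.X 2
  set Jac : Ideal (MvPolynomial (Fin (n + 3)) K) :=
      Ideal.span {u ^ 2 - v ^ 2 * w, 2 * u, -(2 * v * w), -(v ^ 2)}
  have h2 : IsUnit (2 : MvPolynomial (Fin (n + 3)) K) := by
    rw [← map_ofNat (C (σ := Fin (n + 3)) (R := K))]; exact (Ne.isUnit two_ne_zero).map C
  have hJ : Jac = Ideal.span {u, v * w, v ^ 2} := by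
    refine le_antisymm (Ideal.span_le.2 ?_) (Ideal.span_le.2 ?_)
    · simp only [Set.insert_subset_iff, Set.singleton_subset_iff, SetLike.mem_coe]
      have a : u ∈ Ideal.span {u, v * w, v ^ 2} := Ideal.subset_span (by simp)
      have b : v * w ∈ Ideal.span {u, v * w, v ^ 2} := Ideal.subset_span (by simp)
      have c : v ^ 2 ∈ Ideal.span {u, v * w, v ^ 2} := Ideal.subset_span (by simp)
      exact ⟨sub_mem (Ideal.pow_mem_of_mem _ a 2 (by norm_num)) (Ideal.mul_mem_right _ _ c),
        Ideal.mul_mem_left _ _ a, neg_mem (by rw [mul_assoc]; exact Ideal.mul_mem_left _ _ b), neg_mem c⟩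
    · simp only [Set.insert_subset_iff, Set.singleton_subset_iff, SetLike.mem_coe]
      refine ⟨(Ideal.unit_mul_mem_iff_mem _ h2).1 (Ideal.subset_span (by simp)),
        (Ideal.unit_mul_mem_iff_mem _ h2).1 ?_, neg_mem_iff.1 (Ideal.subset_span (by simp))⟩
      exact neg_mem_iff.1 (Ideal.subset_span (by simp [mul_assoc]))
  show Ideal.span {u, v} = Jac ⊔ Ideal.span {v} ∧ _
  rw [hJ]
  refine ⟨?_, ?_⟩
  · rw [← Ideal.span_union]
    refine le_antisymm (Ideal.span_mono (by simp [Set.insert_subset_iff])) (Ideal.span_le.2 ?_)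
    simp only [Set.union_singleton, Set.insert_subset_iff, Set.singleton_subset_iff, SetLike.mem_coe]
    have b : v ∈ Ideal.span {u, v} := Ideal.subset_span (by simp)
    exact ⟨b, Ideal.subset_span (by simp), Ideal.mul_mem_right _ _ b, Ideal.pow_mem_of_mem _ b 2 (by norm_num)⟩
  · ext f
    rw [Ideal.mem_colon_span_singleton]
    constructor
    · intro hf
      obtain ⟨a, b, c, habc⟩ := Submodule.mem_span_triple.1 hf
      simp only [smul_eq_mul] at habc
      have hd : u ∣ v * (f - b * w - c * v) := ⟨a, by linear_combination (-1 : MvPolynomial (Fin (n + 3)) K) * habc⟩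
      rcases (X_prime (i := (0 : Fin (n+3)))).dvd_or_dvd hd with hh | hh
      · exact absurd hh (by simp [v])
      · obtain ⟨d, hd⟩ := hh
        exact Submodule.mem_span_triple.2 ⟨d, c, b, by simp only [smul_eq_mul]; linear_combination (-1 : MvPolynomial (Fin (n + 3)) K) * hd⟩
    · intro hf
      obtain ⟨a, b, c, rfl⟩ := Submodule.mem_span_triple.1 hf
      exact Submodule.mem_span_triple.2 ⟨a * v, c, b, by simp only [smul_eq_mul]; ring⟩

end Pinch2

theorem cGenerating (k : Type u) [Field k]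
    (mo : MonomialOrder (Fin 4)) (a b c : ℕ) (W : Submodule k (MvPolynomial (Fin 4) k))
    (hW : W ≤ Submodule.span k {f : MvPolynomial (Fin 4) k | ∃ e : Fin 4 →₀ ℕ, e 2 + e 3 = a ∧ e 0 + e 1 = b + e 2 ∧ f = MvPolynomial.monomial e 1})
    (h₁ : ∀ i j : ℕ, i ≤ a → j * (c + 1) < b + i → ∃ w ∈ W, w ≠ 0 ∧
      mo.degree w = Finsupp.single 0 (b + i - j * (c + 1)) + Finsupp.single 1 (j * (c + 1)) +
        Finsupp.single 2 i + Finsupp.single 3 (a - i))
    (h₂ : ∀ i : ℕ, i ≤ a → ∃ w ∈ W, w ≠ 0 ∧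
      mo.degree w = Finsupp.single 1 (b + i) + Finsupp.single 2 i + Finsupp.single 3 (a - i)) :
    W * Submodule.span k {f : MvPolynomial (Fin 4) k | ∃ e : Fin 4 →₀ ℕ, e 2 + e 3 = 0 ∧ e 0 + e 1 = c + e 2 ∧ f = MvPolynomial.monomial e 1} =
      Submodule.span k {f : MvPolynomial (Fin 4) k | ∃ e : Fin 4 →₀ ℕ, e 2 + e 3 = a ∧ e 0 + e 1 = (b + c) + e 2 ∧ f = MvPolynomial.monomial e 1} := by
  set P := Submodule.span k {f : MvPolynomial (Fin 4) k | ∃ e : Fin 4 →₀ ℕ, e 2 + e 3 = 0 ∧ e 0 + e 1 = c + e 2 ∧ f = MvPolynomial.monomial e 1}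
  set T := {f : MvPolynomial (Fin 4) k | ∃ e : Fin 4 →₀ ℕ, e 2 + e 3 = a ∧ e 0 + e 1 = (b + c) + e 2 ∧ f = MvPolynomial.monomial e 1}
  have hle : W * P ≤ Submodule.span k T := by
    refine (mul_le_mul' hW le_rfl).trans ?_
    rw [Submodule.span_mul_span, Submodule.span_le]
    rintro _ ⟨_, ⟨e, h1, h2, rfl⟩, _, ⟨e', h1', h2', rfl⟩, rfl⟩
    exact Submodule.subset_span ⟨e + e', by simp only [Finsupp.coe_add, Pi.add_apply]; omega, by simp only [Finsupp.coe_add, Pi.add_apply]; omega, by simp [MvPolynomial.monomial_mul]⟩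
  have hTsupp : Submodule.span k T = restrictSupport k {e : Fin 4 →₀ ℕ | e 2 + e 3 = a ∧ e 0 + e 1 = (b + c) + e 2} := by
    rw [restrictSupport_eq_span]
    congr 1; ext f; simp [T, and_assoc, eq_comm]
  have hlead : ∀ e : Fin 4 →₀ ℕ, e 2 + e 3 = a → e 0 + e 1 = (b + c) + e 2 → ∃ g ∈ W * P, g ≠ 0 ∧ mo.degree g = e := by
    intro e e23 e01
    have key : ∀ (w : MvPolynomial (Fin 4) k) (e' : Fin 4 →₀ ℕ), w ∈ W → w ≠ 0 → e' 2 + e' 3 = 0 → e' 0 + e' 1 = c + e' 2 → mo.degree w + e' = e →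
        ∃ g ∈ W * P, g ≠ 0 ∧ mo.degree g = e := by
      intro w e' hw hw0 a1 a2 a3
      have hm : (monomial e' (1 : k)) ≠ 0 := by simp
      exact ⟨w * monomial e' 1, Submodule.mul_mem_mul hw (Submodule.subset_span ⟨e', a1, a2, rfl⟩), mul_ne_zero hw0 hm,
        by classical rw [mo.degree_mul hw0 hm, mo.degree_monomial, if_neg one_ne_zero]; exact a3⟩
    have hi : e 2 ≤ a := by omega
    have hj := Nat.div_add_mod' (e 1) (c + 1)
    have hjr := Nat.mod_lt (e 1) (show c + 1 > 0 by omega)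
    by_cases hJ : e 1 / (c + 1) * (c + 1) < b + e 2 ∧ e 1 % (c+1) ≤ c ∧ b + e 2 - e 1 / (c + 1) * (c + 1) ≤ e 0
    · obtain ⟨w, hw, hw0, hd⟩ := h₁ (e 2) (e 1 / (c + 1)) hi hJ.1
      refine key w (Finsupp.single 0 (e 0 - (b + e 2 - e 1 / (c + 1) * (c + 1))) + Finsupp.single 1 (e 1 % (c + 1))) hw hw0 (by simp) (by simp; omega) ?_
      rw [hd]; ext x; fin_cases x <;> simp <;> omega
    · have hge : b + e 2 ≤ e 1 := by omega
      obtain ⟨w, hw, hw0, hd⟩ := h₂ (e 2) hi
      refine key w (Finsupp.single 0 (e 0) + Finsupp.single 1 (e 1 - (b + e 2))) hw hw0 (by simp) (by simp; omega) ?_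
      rw [hd]; ext x; fin_cases x <;> simp <;> omega
  refine le_antisymm hle ?_
  rw [hTsupp]
  have main : ∀ (d : mo.syn) (f : MvPolynomial (Fin 4) k), f ∈ restrictSupport k {e : Fin 4 →₀ ℕ | e 2 + e 3 = a ∧ e 0 + e 1 = (b + c) + e 2} →
      mo.toSyn (mo.degree f) = d → f ∈ W * P := by
    intro d
    induction d using WellFoundedLT.induction with
    | _ d ih =>
      intro f hf hd
      by_cases hf0 : f = 0
      · rw [hf0]; exact zero_mem _
      have hmem := (mem_restrictSupport_iff (R := k)).1 hf (mo.degree_mem_support hf0)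
      obtain ⟨g, hg, hg0, hgd⟩ := hlead _ hmem.1 hmem.2
      have hgu : mo.leadingCoeff g ≠ 0 := by simpa using hg0
      set r := f - (mo.leadingCoeff f / mo.leadingCoeff g) • g with hr
      have hg' : g ∈ restrictSupport k {e : Fin 4 →₀ ℕ | e 2 + e 3 = a ∧ e 0 + e 1 = (b + c) + e 2} := hTsupp ▸ hle hg
      have hrmem : r ∈ restrictSupport k {e : Fin 4 →₀ ℕ | e 2 + e 3 = a ∧ e 0 + e 1 = (b + c) + e 2} :=
        sub_mem hf (Submodule.smul_mem _ _ hg')
      have hfr : f = r + (mo.leadingCoeff f / mo.leadingCoeff g) • g := by rw [hr]; ring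
      rw [hfr]
      refine add_mem ?_ (Submodule.smul_mem _ _ hg)
      by_cases hr0 : r = 0
      · rw [hr0]; exact zero_mem _
      refine ih _ ?_ r hrmem rfl
      rw [← hd]
      refine lt_of_le_of_ne ?_ ?_
      · refine le_trans mo.degree_sub_le (max_le le_rfl ?_)
        refine le_trans mo.degree_smul_le ?_
        rw [hgd]
      · intro he
        have he' := mo.toSyn.injective he
        have : r.coeff (mo.degree r) = 0 := by
          rw [he', hr, coeff_sub, coeff_smul, smul_eq_mul]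
          have e1 : g.coeff (mo.degree f) = mo.leadingCoeff g := by rw [MonomialOrder.leadingCoeff, hgd]
          rw [e1, div_mul_cancel₀ _ hgu]
          simp [MonomialOrder.leadingCoeff]
        exact (mo.coeff_degree_ne_zero_iff.2 hr0) this
  exact fun f hf => main _ f hf rfl

end Groth.Agent.H98
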