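import Groth.Agent.Sep12.Basic
import Mathlib

universe u v w

open TensorProduct IsLocalRing

namespace Groth.Agent.H98.FSArtin

variable {k : Type u} [Field k]

theorem primeField_hom_eq {R : Type w} [CommRing R] (f g : (⊥ : Subfield k) →+* R) : f = g := by
  have key : ∀ a ∈ Subfield.closure (∅ : Set k), ∃ h : a ∈ (⊥ : Subfield k), f ⟨a, h⟩ = g ⟨a, h⟩ := by
    intro a ha
    induction ha using Subfield.closure_induction with
    | mem x hx => exact absurd hx (Set.notMem_empty x)
    | one => exact ⟨one_mem _, (f.map_one).trans g.map_one.symm⟩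
    | add x y _ _ hx hy =>
      obtain ⟨a, ha⟩ := hx; obtain ⟨b, hb⟩ := hy
      exact ⟨add_mem a b, (f.map_add ⟨x, a⟩ ⟨y, b⟩).trans ((congrArg₂ (· + ·) ha hb).trans (g.map_add _ _).symm)⟩
    | neg x _ hx =>
      obtain ⟨a, ha⟩ := hx
      exact ⟨neg_mem a, (f.map_neg ⟨x, a⟩).trans ((congrArg Neg.neg ha).trans (g.map_neg _).symm)⟩
    | inv x _ hx =>
      obtain ⟨a, ha⟩ := hx
      refine ⟨inv_mem a, ?_⟩
      rcases eq_or_ne x 0 with rfl | hx0
      · have : (⟨0⁻¹, inv_mem a⟩ : (⊥ : Subfield k)) = 0 := Subtype.ext inv_zero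
        rw [this, map_zero, map_zero]
      · have hm : (⟨x, a⟩ : (⊥ : Subfield k)) * ⟨x⁻¹, inv_mem a⟩ = 1 := Subtype.ext (mul_inv_cancel₀ hx0)
        have h1 := congrArg f hm
        have h2 := congrArg g hm
        rw [map_mul, map_one] at h1 h2
        rw [← ha] at h2
        exact (IsUnit.of_mul_eq_one _ h1).mul_left_cancel (h1.trans h2.symm)
    | mul x y _ _ hx hy =>
      obtain ⟨a, ha⟩ := hx; obtain ⟨b, hb⟩ := hy
      exact ⟨mul_mem a b, (f.map_mul ⟨x, a⟩ ⟨y, b⟩).trans ((congrArg₂ (· * ·) ha hb).trans (g.map_mul _ _).symm)⟩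
  ext ⟨a, ha⟩
  obtain ⟨h, e⟩ := key a (by rwa [Subfield.closure_empty])
  exact e

instance perfectField_bot : PerfectField (⊥ : Subfield k) := by
  rcases CharP.exists' k with h | ⟨p, hp, hpk⟩
  · exact PerfectField.ofCharZero
  · have : Finite (⊥ : Subfield k) := by
      have hle : (⊥ : Subfield k) ≤ (ZMod.castHom (dvd_refl p) k).fieldRange := bot_le
      have : Finite (ZMod.castHom (dvd_refl p) k).fieldRange := Finite.of_surjective (ZMod.castHom (dvd_refl p) k).rangeRestrictField (fun ⟨_, x, hx⟩ => ⟨x, Subtype.ext hx⟩)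
      exact Finite.of_injective (Subfield.inclusion hle) (Subfield.inclusion hle).injective
    exact PerfectField.ofFinite

theorem exists_ringHom_lift {P Q : Type w} [CommRing P] [CommRing Q] (π : P →+* Q) (hπ : Function.Surjective π)
    (hker : IsNilpotent (RingHom.ker π)) (ι : (⊥ : Subfield k) →+* P) (g : k →+* Q) :
    ∃ h : k →+* P, π.comp h = g := by
  have := Groth.Agent.Sep12.formallySmooth_of_perfectField (⊥ : Subfield k) k
  letI := ι.toAlgebra
  letI := (π.comp ι).toAlgebra
  let π' : P →ₐ[(⊥ : Subfield k)] Q := { π with commutes' := fun r => rfl }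
  let g' : k →ₐ[(⊥ : Subfield k)] Q :=
    { g with commutes' := fun r => RingHom.congr_fun (primeField_hom_eq (g.comp (algebraMap _ k)) (π.comp ι)) r }
  refine ⟨(Algebra.FormallySmooth.liftOfSurjective g' π' hπ hker).toRingHom, ?_⟩
  ext x
  exact Algebra.FormallySmooth.liftOfSurjective_apply g' π' hπ hker x

theorem maximalIdeal_eq_bot (C : Type v) [CommRing C] [IsLocalRing C] [IsArtinianRing C] [Algebra k C]
    [Algebra.FormallySmooth k C] : maximalIdeal C = ⊥ := by
  classical
  set m := maximalIdeal C with hm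
  let L := ResidueField C
  have hmnil : IsNilpotent m := by
    have := IsArtinianRing.isNilpotent_jacobson_bot (R := C)
    rwa [IsLocalRing.jacobson_eq_maximalIdeal _ bot_ne_top] at this
  by_contra hne
  let φk : k →+* C := algebraMap k C
  let toL : k →+* L := (residue C).comp φk
  let e : (⊥ : Subfield k) →+* (⊥ : Subfield L) := (toL.comp (Subfield.subtype _)).codRestrict (⊥ : Subfield L) (fun x => by
    rw [← Subfield.map_bot toL]; exact ⟨x, x.2, rfl⟩)
  have esurj : Function.Surjective e := by
    rintro ⟨y, hy⟩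
    rw [← Subfield.map_bot toL] at hy
    obtain ⟨x, hx, rfl⟩ := hy
    exact ⟨⟨x, hx⟩, rfl⟩
  let e' := RingEquiv.ofBijective e ⟨e.injective, esurj⟩
  obtain ⟨s, hs⟩ := exists_ringHom_lift (k := L) (residue C) residue_surjective
    (by rwa [IsLocalRing.ker_residue]) (φk.comp ((Subfield.subtype _).comp e'.symm.toRingHom)) (RingHom.id L)
  have hs' : ∀ c, residue C (s c) = c := fun c => RingHom.congr_fun hs c
  -- minimal generators
  have hfg : m.FG := IsNoetherian.noetherian m
  let n := Submodule.spanFinrank m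
  have hcard : m.generators.ncard = n := Submodule.FG.generators_ncard hfg
  obtain ⟨x, hx⟩ : ∃ x : Fin n → C, Ideal.span (Set.range x) = m := by
    have hf := Submodule.FG.finite_generators hfg
    let e := (Finset.equivFinOfCardEq (n := n) (s := hf.toFinset) (by rw [← hcard, Set.ncard_eq_toFinset_card _ hf]))
    refine ⟨fun i => (e.symm i).1, ?_⟩
    rw [show Set.range (fun i => (e.symm i).1) = m.generators by
      ext y; constructor
      · rintro ⟨i, rfl⟩; exact hf.mem_toFinset.1 (e.symm i).2
      · intro hy; exact ⟨e ⟨y, hf.mem_toFinset.2 hy⟩, by simp⟩]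
    exact Submodule.span_generators m
  have hxm : ∀ i, x i ∈ m := fun i => hx ▸ Ideal.subset_span ⟨i, rfl⟩
  have hn : 0 < n := by
    rcases Nat.eq_zero_or_pos n with h | h
    · exfalso; apply hne
      have : IsEmpty (Fin n) := by rw [h]; infer_instance
      rw [← hx, Set.range_eq_empty, Ideal.span_empty]
    · exact h
  obtain ⟨N, hN⟩ := hmnil
  have hN0 : N ≠ 0 := by
    rintro rfl
    rw [pow_zero] at hN
    exact hne (le_bot_iff.1 (le_top.trans_eq (by simpa using hN)))
  -- the thickened polynomial ring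
  let J : Ideal (MvPolynomial (Fin n) L) := MvPolynomial.idealOfVars (Fin n) L ^ (N + 1)
  let ev : MvPolynomial (Fin n) L →+* C := MvPolynomial.eval₂Hom s x
  have hev : (MvPolynomial.idealOfVars (Fin n) L).map ev = m := by
    rw [MvPolynomial.idealOfVars, Ideal.map_span, ← Set.range_comp, ← hx]
    congr 1; ext y; simp [ev]
  have hJ : ∀ a ∈ J, ev a = 0 := fun a ha => by
    have := Ideal.mem_map_of_mem ev ha
    rw [Ideal.map_pow, hev, pow_succ, hN] at this
    simpa using this
  let π : MvPolynomial (Fin n) L ⧸ J →+* C := Ideal.Quotient.lift J ev hJ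
  have evsurj : Function.Surjective ev := by
    intro c
    have key : ∀ j, ∃ t, c - ev t ∈ m ^ j := by
      intro j
      induction j with
      | zero => exact ⟨0, by simp⟩
      | succ j ih =>
        obtain ⟨t, ht⟩ := ih
        rw [← hev, ← Ideal.map_pow, Ideal.map] at ht
        suffices ∀ d ∈ Ideal.span (ev '' (MvPolynomial.idealOfVars (Fin n) L ^ j : Ideal _)), ∃ u, d - ev u ∈ m ^ (j+1) by
          obtain ⟨u, hu⟩ := this _ ht
          exact ⟨t + u, by rwa [map_add, ← sub_sub]⟩
        intro d hd
        induction hd using Submodule.span_induction with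
        | mem d hd => obtain ⟨g, -, rfl⟩ := hd; exact ⟨g, by simp⟩
        | zero => exact ⟨0, by simp⟩
        | add d d' _ _ h h' =>
          obtain ⟨u, hu⟩ := h; obtain ⟨u', hu'⟩ := h'
          exact ⟨u + u', by rw [map_add]; convert add_mem hu hu' using 1; ring⟩
        | smul a d hd h =>
          obtain ⟨u, hu⟩ := h
          refine ⟨MvPolynomial.C (residue C a) * u, ?_⟩
          have h1 : a - s (residue C a) ∈ m := by
            rw [hm, ← IsLocalRing.residue_eq_zero_iff, map_sub, hs', sub_self]
          have h2 : d ∈ m ^ j := by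
            have : d ∈ (MvPolynomial.idealOfVars (Fin n) L ^ j).map ev := hd
            rwa [Ideal.map_pow, hev] at this
          have e : a • d - ev (MvPolynomial.C (residue C a) * u) = s (residue C a) * (d - ev u) + d * (a - s (residue C a)) := by
            rw [map_mul, smul_eq_mul, show ev (MvPolynomial.C (residue C a)) = s (residue C a) by simp [ev]]; ring
          rw [e]
          exact add_mem (Ideal.mul_mem_left _ _ hu) (pow_succ m j ▸ Ideal.mul_mem_mul h2 h1)
    obtain ⟨t, ht⟩ := key N
    rw [hN, Ideal.zero_eq_bot, Ideal.mem_bot, sub_eq_zero] at ht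
    exact ⟨t, ht.symm⟩
  have πsurj : Function.Surjective π := fun c => ⟨Ideal.Quotient.mk J (evsurj c).choose, (evsurj c).choose_spec⟩
  -- low degree part of the kernel
  have hker : ∀ g, ev g = 0 → g ∈ MvPolynomial.idealOfVars (Fin n) L ^ 2 := by
    intro g hg
    set c0 := MvPolynomial.constantCoeff g
    set h := g - MvPolynomial.C c0 - ∑ i, MvPolynomial.C (g.coeff (Finsupp.single i 1)) * MvPolynomial.X i with hh
    have hh2 : h ∈ MvPolynomial.idealOfVars (Fin n) L ^ 2 := by
      rw [MvPolynomial.mem_pow_idealOfVars_iff']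
      intro d hd
      rcases Nat.eq_zero_or_pos (Finsupp.degree d) with h0 | h0
      · rw [(Finsupp.degree_eq_zero_iff d).1 h0]
        simp [hh, c0, MvPolynomial.constantCoeff_eq, MvPolynomial.coeff_sum]
      · obtain ⟨i, hi⟩ : ∃ i, d i ≠ 0 := by
          by_contra! hz
          rw [show d = 0 from Finsupp.ext hz, map_zero] at h0; omega
        have hle : Finsupp.single i 1 ≤ d := Finsupp.single_le_iff.2 (Nat.one_le_iff_ne_zero.2 hi)
        have hd1 : d = Finsupp.single i 1 := by
          have hsum := congrArg Finsupp.degree (tsub_add_cancel_of_le hle)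
          rw [map_add, Finsupp.degree_single] at hsum
          have : d - Finsupp.single i 1 = 0 := (Finsupp.degree_eq_zero_iff _).1 (by omega)
          rw [← tsub_add_cancel_of_le hle, this, zero_add]
        rw [hd1]
        simp [hh, MvPolynomial.coeff_sum, MvPolynomial.coeff_C, MvPolynomial.coeff_X', Finsupp.single_eq_single_iff,
          Ne.symm (Finsupp.single_ne_zero.2 one_ne_zero : (Finsupp.single i (1:ℕ)) ≠ 0), mul_ite]
    have hev2 : ev h ∈ m ^ 2 := by rw [← hev, ← Ideal.map_pow]; exact Ideal.mem_map_of_mem ev hh2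
    have heq : s c0 + ∑ i, s (g.coeff (Finsupp.single i 1)) * x i = - ev h := by
      rw [hh, map_sub, map_sub, hg, map_sum]; simp [ev]; ring
    have hsum_mem : ∑ i, s (g.coeff (Finsupp.single i 1)) * x i ∈ m := sum_mem fun i _ => Ideal.mul_mem_left _ _ (hxm i)
    have hc0 : c0 = 0 := by
      have : s c0 ∈ m := by
        rw [show s c0 = - ev h - ∑ i, s (g.coeff (Finsupp.single i 1)) * x i by rw [← heq]; ring]
        exact sub_mem (neg_mem (Ideal.pow_le_self two_ne_zero hev2)) hsum_mem
      rw [hm, ← IsLocalRing.residue_eq_zero_iff, hs'] at this; exact this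
    have hc1 : ∀ i, g.coeff (Finsupp.single i 1) = 0 := by
      intro i
      by_contra hi
      have hu : IsUnit (s (g.coeff (Finsupp.single i 1))) := (Ne.isUnit hi).map s
      set I' := Ideal.span (x '' (Finset.univ.erase i : Finset (Fin n))) with hI'
      have hxi : x i ∈ I' ⊔ m ^ 2 := by
        refine (Ideal.unit_mul_mem_iff_mem _ hu).1 ?_
        rw [show s (g.coeff (Finsupp.single i 1)) * x i = - ev h - ∑ l ∈ Finset.univ.erase i, s (g.coeff (Finsupp.single l 1)) * x l by
          rw [← heq, hc0, map_zero, zero_add, ← Finset.add_sum_erase _ _ (Finset.mem_univ i)]; ring]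
        refine sub_mem (Submodule.mem_sup_right (neg_mem hev2)) (sum_mem fun l hl => Submodule.mem_sup_left (Ideal.mul_mem_left _ _ (Ideal.subset_span ⟨l, hl, rfl⟩)))
      have hle : m ≤ I' := by
        refine Submodule.le_of_le_smul_of_le_jacobson_bot hfg (IsLocalRing.maximalIdeal_le_jacobson ⊥) ?_
        rw [smul_eq_mul, ← pow_two]
        conv_lhs => rw [← hx]
        rw [Ideal.span_le]
        rintro _ ⟨l, rfl⟩
        by_cases hl : l = i
        · exact hl ▸ hxi
        · exact Submodule.mem_sup_left (Ideal.subset_span ⟨l, by simp [hl], rfl⟩)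
      have heqI : I' = m := le_antisymm (by rw [hI', Ideal.span_le]; rintro _ ⟨l, -, rfl⟩; exact hxm l) hle
      have h1 := Submodule.spanFinrank_span_le_ncard_of_finite (R := C) (s := x '' (Finset.univ.erase i : Finset (Fin n))) ((Finset.finite_toSet _).image x)
      rw [show Submodule.span C (x '' (Finset.univ.erase i : Finset (Fin n))) = m from heqI] at h1
      have h2 := h1.trans (Set.ncard_image_le (Finset.finite_toSet _))
      rw [Set.ncard_coe_finset, Finset.card_erase_of_mem (Finset.mem_univ i), Finset.card_univ, Fintype.card_fin] at h2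
      omega
    have : g = h := by rw [hh]; simp [hc0, hc1]
    rw [this]; exact hh2
  have hkerπ : RingHom.ker π ≤ (MvPolynomial.idealOfVars (Fin n) L).map (Ideal.Quotient.mk J) := by
    intro p hp
    obtain ⟨g, rfl⟩ := Ideal.Quotient.mk_surjective p
    exact Ideal.mem_map_of_mem _ (Ideal.pow_le_self two_ne_zero (hker g hp))
  have πnil : IsNilpotent (RingHom.ker π) := by
    refine ⟨N + 1, le_bot_iff.1 ((Ideal.pow_right_mono hkerπ _).trans ?_)⟩
    rw [← Ideal.map_pow]
    exact (Ideal.map_quotient_self J).le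
  -- k-structure on the thickening
  obtain ⟨h, hh⟩ := exists_ringHom_lift π πsurj πnil
    (((Ideal.Quotient.mk J).comp (MvPolynomial.C (R := L))).comp (toL.comp (Subfield.subtype _))) φk
  letI := h.toAlgebra
  let π' : MvPolynomial (Fin n) L ⧸ J →ₐ[k] C := { π with commutes' := fun r => RingHom.congr_fun hh r }
  let σ := Algebra.FormallySmooth.liftOfSurjective (AlgHom.id k C) π' πsurj πnil
  have hσ : ∀ c, π (σ c) = c := fun c => Algebra.FormallySmooth.liftOfSurjective_apply (AlgHom.id k C) π' πsurj πnil c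
  let i0 : Fin n := ⟨0, hn⟩
  obtain ⟨g, hg⟩ := Ideal.Quotient.mk_surjective (σ (x i0))
  have hd : g - MvPolynomial.X i0 ∈ MvPolynomial.idealOfVars (Fin n) L ^ 2 := by
    refine hker _ ?_
    have : ev g = x i0 := by
      have := hσ (x i0); rw [← hg] at this; exact this
    rw [map_sub, this]; simp [ev]
  have hXv : (MvPolynomial.X i0 : MvPolynomial (Fin n) L) ∈ MvPolynomial.idealOfVars (Fin n) L := Ideal.subset_span ⟨i0, rfl⟩
  have hgv : g ∈ MvPolynomial.idealOfVars (Fin n) L := by
    have := add_mem (Ideal.pow_le_self two_ne_zero hd) hXv; simpa using this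
  have hgN : g ^ N ∈ J := by
    rw [← Ideal.Quotient.eq_zero_iff_mem, map_pow, hg, ← map_pow]
    have : x i0 ^ N = 0 := by
      have := Ideal.pow_mem_pow (hxm i0) N; rw [hN] at this; simpa using this
    rw [this, map_zero]
  have hdiff : g ^ N - MvPolynomial.X i0 ^ N ∈ J := by
    rw [← geom_sum₂_mul, mul_comm]
    have : ∑ i ∈ Finset.range N, g ^ i * MvPolynomial.X i0 ^ (N - 1 - i) ∈ MvPolynomial.idealOfVars (Fin n) L ^ (N - 1) := by
      refine sum_mem fun i hi => ?_
      have := Ideal.mul_mem_mul (Ideal.pow_mem_pow hgv i) (Ideal.pow_mem_pow hXv (N - 1 - i))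
      rwa [← pow_add, show i + (N - 1 - i) = N - 1 by simp at hi; omega] at this
    have := Ideal.mul_mem_mul hd this
    rwa [← pow_add, show 2 + (N - 1) = N + 1 by omega] at this
  have hX : (MvPolynomial.X i0 : MvPolynomial (Fin n) L) ^ N ∈ J := by
    have := sub_mem hgN hdiff; simpa using this
  rw [MvPolynomial.X_pow_eq_monomial, MvPolynomial.monomial_mem_pow_idealOfVars_iff _ _ one_ne_zero, Finsupp.degree_single] at hX
  omega

theorem length_eq (A : Type u) (B : Type v) [CommRing A] [CommRing B]
    [IsLocalRing A] [IsLocalRing B] [IsArtinianRing A] [IsArtinianRing B] [Algebra A B]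
    [Module.Flat A B] [Algebra.FormallySmooth A B] :
    Module.length A A = Module.length B B := by
  have hnil : ∀ a ∈ maximalIdeal A, IsNilpotent (algebraMap A B a) := fun a ha => by
    obtain ⟨N, hN⟩ := IsArtinianRing.isNilpotent_jacobson_bot (R := A)
    rw [IsLocalRing.jacobson_eq_maximalIdeal _ bot_ne_top] at hN
    refine ⟨N, ?_⟩
    rw [← map_pow]
    have : a ^ N ∈ maximalIdeal A ^ N := Ideal.pow_mem_pow ha N
    rw [hN, Ideal.zero_eq_bot, Ideal.mem_bot] at this
    rw [this, map_zero]
  have : IsLocalHom (algebraMap A B) := ⟨fun a ha => by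
    by_contra h
    exact (hnil a h).not_isUnit ha⟩
  set I := (maximalIdeal A).map (algebraMap A B)
  have hIle : I ≤ maximalIdeal B := Ideal.map_le_iff_le_comap.2 fun a ha => by
    simp only [Ideal.mem_comap, mem_maximalIdeal, mem_nonunits_iff]
    exact fun h => (hnil a ha).not_isUnit h
  have : Nontrivial (B ⧸ I) := Ideal.Quotient.nontrivial_iff.2 fun h => (maximalIdeal.isMaximal B).ne_top (top_le_iff.1 (h ▸ hIle))
  have : IsLocalRing (B ⧸ I) := IsLocalRing.of_surjective' (Ideal.Quotient.mk I) Ideal.Quotient.mk_surjective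
  letI : Field (A ⧸ maximalIdeal A) := Ideal.Quotient.field _
  letI : Algebra (A ⧸ maximalIdeal A) (B ⧸ I) :=
    (Ideal.Quotient.lift _ ((Ideal.Quotient.mk I).comp (algebraMap A B)) fun a ha =>
      Ideal.Quotient.eq_zero_iff_mem.2 (Ideal.mem_map_of_mem _ ha)).toAlgebra
  have : IsScalarTower A (A ⧸ maximalIdeal A) (B ⧸ I) := IsScalarTower.of_algebraMap_eq fun _ => rfl
  have hFS : Algebra.FormallySmooth (A ⧸ maximalIdeal A) (B ⧸ I) := by
    refine Algebra.FormallySmooth.iff_comp_surjective.2 fun T _ _ J hJ f => ?_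
    letI : Algebra A T := ((algebraMap (A ⧸ maximalIdeal A) T).comp (algebraMap A (A ⧸ maximalIdeal A))).toAlgebra
    have : IsScalarTower A (A ⧸ maximalIdeal A) T := IsScalarTower.of_algebraMap_eq fun _ => rfl
    obtain ⟨l, hl⟩ := Algebra.FormallySmooth.comp_surjective A B J hJ
      ((f.restrictScalars A).comp (IsScalarTower.toAlgHom A B (B ⧸ I)))
    have hI : ∀ b ∈ I, l b = 0 := by
      intro b hb
      have hle : I ≤ RingHom.ker l.toRingHom := Ideal.map_le_iff_le_comap.2 fun a ha => by
        simp only [Ideal.mem_comap, RingHom.mem_ker, AlgHom.toRingHom_eq_coe, RingHom.coe_coe, AlgHom.commutes]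
        rw [IsScalarTower.algebraMap_apply A (A ⧸ maximalIdeal A) T, Ideal.Quotient.algebraMap_eq, Ideal.Quotient.eq_zero_iff_mem.2 ha, map_zero]
      exact hle hb
    let l' : B ⧸ I →+* T := Ideal.Quotient.lift I l.toRingHom hI
    refine ⟨{ l' with commutes' := fun r => ?_ }, ?_⟩
    · obtain ⟨a, rfl⟩ := Ideal.Quotient.mk_surjective r
      change l' (algebraMap (A ⧸ maximalIdeal A) (B ⧸ I) (Ideal.Quotient.mk _ a)) = _
      rw [show algebraMap (A ⧸ maximalIdeal A) (B ⧸ I) (Ideal.Quotient.mk _ a) = Ideal.Quotient.mk I (algebraMap A B a) from rfl]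
      exact l.commutes a
    · refine AlgHom.ext fun c => ?_
      obtain ⟨b, rfl⟩ := Ideal.Quotient.mk_surjective c
      exact AlgHom.congr_fun hl b
  have hfield := maximalIdeal_eq_bot (k := A ⧸ maximalIdeal A) (B ⧸ I)
  have hlen : Module.length B (B ⧸ I) = 1 := by
    have hmax : I.IsMaximal := Ideal.Quotient.maximal_of_isField _ ((IsLocalRing.isField_iff_maximalIdeal_eq).2 hfield)
    rw [Module.length_eq_one_iff, isSimpleModule_iff_isCoatom]
    exact hmax.out
  have hb := IsLocalRing.length_baseChange A B A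
  rw [show Module.length B (B ⊗[A] A) = Module.length B B from (AlgebraTensorModule.rid A B B).length_eq] at hb
  rw [hb, hlen, mul_one]

end Groth.Agent.H98.FSArtin
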