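import Groth.Agent.H98.FSArtin
import Groth.Agent.S1486
import Groth.Prelude.Def_MoreMor
import Mathlib

universe u
open AlgebraicGeometry CategoryTheory IsLocalRing

namespace Groth.Agent.H98.FSArtin

theorem genericPoint_eq {X' X : Scheme.{u}} (f : X' ⟶ X) [IrreducibleSpace ↥X'] [IrreducibleSpace ↥X] [Flat f] :
    f (genericPoint X') = genericPoint X := by
  have hg := Flat.generalizingMap f
  obtain ⟨z, hz, hfz⟩ := hg (genericPoint_specializes (f (genericPoint X')))
  have : genericPoint X' = z := ((genericPoint_specializes z).antisymm hz).eq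
  rw [this, hfz]

theorem isArtinian_stalk_genericPoint {X : Scheme.{u}} [IrreducibleSpace ↥X] [IsNoetherian X] :
    IsArtinianRing (X.presheaf.stalk (genericPoint X)) := by
  have : IsNoetherianRing (X.presheaf.stalk (genericPoint X)) := inferInstance
  refine isArtinianRing_iff_isNoetherianRing_krullDimLE_zero.2 ⟨this, ?_⟩
  rw [Ring.krullDimLE_zero_iff]
  intro P hP
  have hz : (⟨P, hP⟩ : PrimeSpectrum (X.presheaf.stalk (genericPoint X))) = closedPoint _ := by
    apply (X.fromSpecStalk (genericPoint X)).isEmbedding.injective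
    have key : ∀ q, X.fromSpecStalk (genericPoint X) q = genericPoint X := by
      intro q
      have hq : X.fromSpecStalk (genericPoint X) q ∈ Set.range (X.fromSpecStalk (genericPoint X)) := ⟨q, rfl⟩
      rw [Scheme.range_fromSpecStalk] at hq
      exact (Specializes.antisymm hq (genericPoint_specializes _)).eq
    exact (key _).trans (key _).symm
  have : P = maximalIdeal _ := congrArg PrimeSpectrum.asIdeal hz
  rw [this]; exact maximalIdeal.isMaximal _

theorem length_stalk_eq {X' X : Scheme.{u}} (f : X' ⟶ X)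
    [IrreducibleSpace ↥X'] [IrreducibleSpace ↥X] [IsNoetherian X'] [IsNoetherian X] [Flat f]
    (hf : MoreMor.IsFormallySmoothHom f) :
    Module.length (X'.presheaf.stalk (genericPoint X')) (X'.presheaf.stalk (genericPoint X'))
      = Module.length (X.presheaf.stalk (genericPoint X)) (X.presheaf.stalk (genericPoint X)) := by
  set x' := genericPoint X' with hx'
  have hfx : f x' = genericPoint X := genericPoint_eq f
  have a1 : IsArtinianRing (X.presheaf.stalk (genericPoint X)) := isArtinian_stalk_genericPoint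
  have a2 : IsArtinianRing (X'.presheaf.stalk x') := isArtinian_stalk_genericPoint
  rw [← hfx] at a1 ⊢
  obtain ⟨_, ⟨V, hV, rfl⟩, hxV, -⟩ := X.isBasis_affineOpens.exists_subset_of_mem_open (Set.mem_univ (f x')) isOpen_univ
  obtain ⟨_, ⟨U, hU, rfl⟩, hxU, hUV⟩ := X'.isBasis_affineOpens.exists_subset_of_mem_open (show x' ∈ f ⁻¹ᵁ V from hxV) (f ⁻¹ᵁ V).2
  letI := (f.appLE V U hUV).hom.toAlgebra
  have hFS : Algebra.FormallySmooth Γ(X, V) Γ(X', U) := (Groth.Agent.S1486.result f).1 hf U V hU hV hUV
  letI := TopCat.Presheaf.algebra_section_stalk X'.presheaf ⟨x', hxU⟩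
  letI := TopCat.Presheaf.algebra_section_stalk X.presheaf ⟨f x', hxV⟩
  have hlocU : IsLocalization.AtPrime (X'.presheaf.stalk x') (hU.primeIdealOf ⟨x', hxU⟩).asIdeal := hU.isLocalization_stalk ⟨x', hxU⟩
  have hlocV : IsLocalization.AtPrime (X.presheaf.stalk (f x')) (hV.primeIdealOf ⟨f x', hxV⟩).asIdeal := hV.isLocalization_stalk ⟨f x', hxV⟩
  letI := (f.stalkMap x').hom.toAlgebra
  letI : Algebra Γ(X, V) (X'.presheaf.stalk x') :=
    ((algebraMap Γ(X', U) (X'.presheaf.stalk x')).comp (algebraMap Γ(X, V) Γ(X', U))).toAlgebra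
  have : IsScalarTower Γ(X, V) Γ(X', U) (X'.presheaf.stalk x') := IsScalarTower.of_algebraMap_eq fun _ => rfl
  have : IsScalarTower Γ(X, V) (X.presheaf.stalk (f x')) (X'.presheaf.stalk x') := by
    refine IsScalarTower.of_algebraMap_eq fun r => ?_
    change X'.presheaf.germ U x' hxU (f.appLE V U hUV r) = f.stalkMap x' (X.presheaf.germ V (f x') hxV r)
    simp only [Scheme.Hom.appLE, CommRingCat.comp_apply]
    rw [TopCat.Presheaf.germ_res_apply, Scheme.Hom.germ_stalkMap_apply]
  have h1 : Algebra.FormallySmooth Γ(X', U) (X'.presheaf.stalk x') :=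
    .of_isLocalization (hU.primeIdealOf ⟨x', hxU⟩).asIdeal.primeCompl
  have h2 : Algebra.FormallySmooth Γ(X, V) (X'.presheaf.stalk x') := .comp _ Γ(X', U) _
  have h3 : Algebra.FormallySmooth (X.presheaf.stalk (f x')) (X'.presheaf.stalk x') :=
    Algebra.FormallySmooth.localization_base (R := Γ(X, V)) (hV.primeIdealOf ⟨f x', hxV⟩).asIdeal.primeCompl
  have : Module.Flat (X.presheaf.stalk (f x')) (X'.presheaf.stalk x') := Flat.stalkMap f x'
  exact (length_eq _ _).symm

end Groth.Agent.H98.FSArtin
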