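import Mathlib
import Groth.Prelude.Def_EtMil

set_option autoImplicit false
universe u
open TensorProduct

namespace Groth.Agent.H98.FibreSq

instance flat_prod {R : Type*} [CommRing R] {M N : Type*} [AddCommGroup M] [AddCommGroup N]
    [Module R M] [Module R N] [Module.Flat R M] [Module.Flat R N] : Module.Flat R (M × N) := by
  rw [Module.Flat.iff_rTensor_preserves_injective_linearMap]
  intro A A' _ _ _ _ i hi x y h
  have key : ∀ z : A ⊗[R] (M × N), TensorProduct.prodRight R R A' M N (i.rTensor (M × N) z) =
      (i.rTensor M (TensorProduct.prodRight R R A M N z).1,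
        i.rTensor N (TensorProduct.prodRight R R A M N z).2) := fun z => by
    induction z using TensorProduct.induction_on with
    | zero => simp only [map_zero, Prod.fst_zero, Prod.snd_zero, Prod.mk_zero_zero]
    | tmul a x => simp
    | add a b ha hb => simp only [map_add, ha, hb, Prod.fst_add, Prod.snd_add, Prod.mk_add_mk]
  have h' := congrArg (TensorProduct.prodRight R R A' M N) h
  rw [key, key, Prod.mk.injEq] at h'
  exact (TensorProduct.prodRight R R A M N).injective (Prod.ext
    (Module.Flat.rTensor_preserves_injective_linearMap i hi h'.1)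
    (Module.Flat.rTensor_preserves_injective_linearMap i hi h'.2))

lemma flat_of_exact_of_flat {R : Type*} [CommRing R] {M N P : Type*} [AddCommGroup M] [AddCommGroup N]
    [AddCommGroup P] [Module R M] [Module R N] [Module R P] [Module.Flat R N] [Module.Flat R P]
    (g : M →ₗ[R] N) (f : N →ₗ[R] P) (hf : Function.Surjective f) (hg : Function.Injective g)
    (H : Function.Exact g f) : Module.Flat R M := by
  rw [Module.Flat.iff_rTensor_preserves_injective_linearMap]
  intro A A' _ _ _ _ i hi
  have h1 : (g.lTensor A') ∘ₗ (i.rTensor M) = (i.rTensor N) ∘ₗ (g.lTensor A) := by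
    rw [LinearMap.lTensor_comp_rTensor, LinearMap.rTensor_comp_lTensor]
  have h2 : Function.Injective ((i.rTensor N) ∘ₗ (g.lTensor A)) :=
    (Module.Flat.rTensor_preserves_injective_linearMap i hi).comp
      (LinearMap.lTensor_injective_of_exact_of_flat f hf g hg H A)
  rw [← h1] at h2
  exact Function.Injective.of_comp h2

variable (R B' B A' A : Type u) [CommRing R] [CommRing B'] [CommRing B] [CommRing A'] [CommRing A]
    [Algebra B' B] [Algebra B' A'] [Algebra B A] [Algebra A' A] [Algebra B' A]
    [IsScalarTower B' B A] [IsScalarTower B' A' A]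
    [Algebra R B'] [Algebra R B] [Algebra R A'] [Algebra R A]
    [IsScalarTower R B' B] [IsScalarTower R B' A'] [IsScalarTower R B' A] [IsScalarTower R B A]
    [IsScalarTower R A' A]

noncomputable def inc : B' →ₗ[R] B × A' :=
  (IsScalarTower.toAlgHom R B' B).toLinearMap.prod (IsScalarTower.toAlgHom R B' A').toLinearMap

noncomputable def diff : B × A' →ₗ[R] A :=
  (IsScalarTower.toAlgHom R B A).toLinearMap.coprod (-(IsScalarTower.toAlgHom R A' A).toLinearMap)

variable {R B' B A' A}

lemma diff_apply (x : B × A') : diff R B A' A x = algebraMap B A x.1 - algebraMap A' A x.2 := by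
  simp [diff, sub_eq_add_neg]

lemma inc_apply (x : B') : inc R B' B A' x = (algebraMap B' B x, algebraMap B' A' x) := rfl

lemma diff_surjective (hsq : EtMil.IsFibreSquare B' B A' A) :
    Function.Surjective (diff R B A' A) := fun a => by
  obtain ⟨a', rfl⟩ := hsq.1 a
  exact ⟨(0, -a'), by simp [diff_apply]⟩

omit [Algebra R A] [IsScalarTower R B' A] [IsScalarTower R B A] [IsScalarTower R A' A] in
lemma inc_injective (hsq : EtMil.IsFibreSquare B' B A' A) :
    Function.Injective (inc R B' B A') := fun x y h => by
  rw [inc_apply, inc_apply, Prod.mk.injEq] at h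
  have hc : algebraMap B A (algebraMap B' B x) = algebraMap A' A (algebraMap B' A' x) := by
    rw [← IsScalarTower.algebraMap_apply, ← IsScalarTower.algebraMap_apply]
  exact (hsq.2 _ _ hc).unique ⟨rfl, rfl⟩ ⟨h.1.symm, h.2.symm⟩

lemma exact_inc_diff (hsq : EtMil.IsFibreSquare B' B A' A) :
    Function.Exact (inc R B' B A') (diff R B A' A) := fun x => by
  rw [diff_apply, sub_eq_zero]
  constructor
  · intro h
    obtain ⟨b', ⟨h1, h2⟩, -⟩ := hsq.2 x.1 x.2 h
    exact ⟨b', Prod.ext h1 h2⟩
  · rintro ⟨b', rfl⟩
    simp [inc_apply, ← IsScalarTower.algebraMap_apply]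

end Groth.Agent.H98.FibreSq
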