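import Groth.Prelude.Def_W4c5modbuncurvesppStab
import Mathlib

universe u

namespace Groth.Agent.H98.Graph

open Finset

set_option linter.unusedSectionVars false
set_option linter.unusedVariables false

variable {V E : Type u} [Fintype V] [Fintype E] [DecidableEq V] [DecidableEq E] (ends : E → V × V)

def Link (A : Finset E) (S : Finset V) (a b : V) : Prop :=
  a ∈ S ∧ b ∈ S ∧ ∃ e ∈ A, ends e = (a, b) ∨ ends e = (b, a)

def InConn (A : Finset E) (S : Finset V) : Prop :=
  ∀ a ∈ S, ∀ b ∈ S, Relation.ReflTransGen (Link ends A S) a b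

/-- the crossing edges -/
def Cross (S : Finset V) (e : E) : Prop :=
  ((ends e).1 ∈ S ∧ (ends e).2 ∉ S) ∨ ((ends e).1 ∉ S ∧ (ends e).2 ∈ S)

instance (S : Finset V) (e : E) : Decidable (Cross ends S e) := by unfold Cross; infer_instance

open Classical in
noncomputable def reach (A : Finset E) (S : Finset V) (a : V) : Finset V :=
  S.filter fun b => Relation.ReflTransGen (Link ends A S) a b

variable {ends}

theorem Link.symm {A : Finset E} {S : Finset V} {a b : V} (h : Link ends A S a b) : Link ends A S b a :=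
  ⟨h.2.1, h.1, h.2.2.choose, h.2.2.choose_spec.1, h.2.2.choose_spec.2.symm⟩

theorem reach_symm {A : Finset E} {S : Finset V} {a b : V}
    (h : Relation.ReflTransGen (Link ends A S) a b) : Relation.ReflTransGen (Link ends A S) b a := by
  induction h with
  | refl => exact .refl
  | tail _ h ih => exact ih.head h.symm

theorem link_mono {A A' : Finset E} {S S' : Finset V} (hA : A ⊆ A') (hS : S ⊆ S') {a b : V}
    (h : Relation.ReflTransGen (Link ends A S) a b) : Relation.ReflTransGen (Link ends A' S') a b :=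
  h.lift id fun _ _ ⟨ha, hb, e, he, h⟩ => ⟨hS ha, hS hb, e, hA he, h⟩

theorem mem_reach {A : Finset E} {S : Finset V} {a b : V} :
    b ∈ reach ends A S a ↔ b ∈ S ∧ Relation.ReflTransGen (Link ends A S) a b := by
  simp [reach]

theorem reach_inConn (A : Finset E) (S : Finset V) (a : V) :
    InConn ends A (reach ends A S a) := by
  have key : ∀ b, Relation.ReflTransGen (Link ends A S) a b → b ∈ S →
      Relation.ReflTransGen (Link ends A (reach ends A S a)) a b := by
    intro b h
    induction h with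
    | refl => intro _; exact .refl
    | @tail b c hab hbc ih =>
      intro hc
      exact (ih hbc.1).tail ⟨mem_reach.2 ⟨hbc.1, hab⟩, mem_reach.2 ⟨hc, hab.tail hbc⟩, hbc.2.2⟩
  intro x hx y hy
  rw [mem_reach] at hx hy
  exact (reach_symm (key x hx.2 hx.1)).trans (key y hy.2 hy.1)

theorem reach_no_cross (A : Finset E) (S : Finset V) (a : V) (e : E) (he : e ∈ A)
    (h1 : (ends e).1 ∈ S) (h2 : (ends e).2 ∈ S) :
    ((ends e).1 ∈ reach ends A S a ↔ (ends e).2 ∈ reach ends A S a) := by
  simp only [mem_reach, h1, h2, true_and]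
  exact ⟨fun h => h.tail ⟨h1, h2, e, he, Or.inl rfl⟩, fun h => h.tail ⟨h2, h1, e, he, Or.inr rfl⟩⟩

theorem exists_split {A : Finset E} {S : Finset V} (h : ¬ InConn ends A S) :
    ∃ S₁ S₂, S₁.Nonempty ∧ S₂.Nonempty ∧ Disjoint S₁ S₂ ∧ S₁ ∪ S₂ = S ∧
      ∀ e ∈ A, (ends e).1 ∈ S → (ends e).2 ∈ S → ((ends e).1 ∈ S₁ ↔ (ends e).2 ∈ S₁) := by
  simp only [InConn, not_forall] at h
  obtain ⟨a, ha, b, hb, hab⟩ := h
  refine ⟨reach ends A S a, S \ reach ends A S a, ⟨a, mem_reach.2 ⟨ha, .refl⟩⟩, ⟨b, ?_⟩,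
    disjoint_sdiff, union_sdiff_of_subset (fun x hx => (mem_reach.1 hx).1), fun e he h1 h2 => reach_no_cross A S a e he h1 h2⟩
  exact mem_sdiff.2 ⟨hb, fun h => hab (mem_reach.1 h).2⟩

theorem inConn_union {A : Finset E} (hA : InConn ends A univ) {S T₁ T₂ : Finset V}
    (hS : InConn ends A S) (hne : S.Nonempty) (hun : T₁ ∪ T₂ = Sᶜ)
    (hnc : ∀ e ∈ A, (ends e).1 ∈ Sᶜ → (ends e).2 ∈ Sᶜ → ((ends e).1 ∈ T₁ ↔ (ends e).2 ∈ T₁)) :
    InConn ends A (S ∪ T₁) := by
  obtain ⟨s, hs⟩ := hne
  have key : ∀ a, Relation.ReflTransGen (Link ends A univ) a s → a ∈ S ∪ T₁ →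
      Relation.ReflTransGen (Link ends A (S ∪ T₁)) a s := by
    intro a h
    induction h using Relation.ReflTransGen.head_induction_on with
    | refl => intro _; exact .refl
    | @head a c hac _ ih =>
      intro ha
      by_cases haS : a ∈ S
      · exact link_mono subset_rfl subset_union_left (hS a haS s hs)
      have haT : a ∈ T₁ := by simpa [haS] using ha
      have hc : c ∈ S ∪ T₁ := by
        by_contra hc
        simp only [mem_union, not_or] at hc
        obtain ⟨-, -, e, he, h⟩ := hac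
        rcases h with h | h
        · have := hnc e he (by simp [h, haS]) (by simp [h, hc.1])
          simp [h, haT, hc.2] at this
        · have := hnc e he (by simp [h, hc.1]) (by simp [h, haS])
          simp [h, haT, hc.2] at this
      exact (ih hc).head ⟨ha, hc, hac.2.2⟩
  intro a ha b hb
  exact (key a (hA a (mem_univ _) s (mem_univ _)) ha).trans
    (reach_symm (key b (hA b (mem_univ _) s (mem_univ _)) hb))

section Criterion

variable (ends)

noncomputable def gTerm (N : Finset E) (S : Finset V) (e : E) : ℝ :=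
  (if e ∈ N ∧ (ends e).1 ∈ S ∧ (ends e).2 ∈ S then 1 else 0) + (if Cross ends S e then 1 else 0) / 2

noncomputable def F (A N : Finset E) (w : V → ℝ) (S : Finset V) : ℝ :=
  (∑ v ∈ S, w v) + ∑ e ∈ A, gTerm ends N S e

variable {ends}

theorem F_split {A N : Finset E} {w : V → ℝ} {S S₁ S₂ : Finset V} (hd : Disjoint S₁ S₂) (hu : S₁ ∪ S₂ = S)
    (hnc : ∀ e ∈ A, (ends e).1 ∈ S → (ends e).2 ∈ S → ((ends e).1 ∈ S₁ ↔ (ends e).2 ∈ S₁)) :
    F ends A N w S = F ends A N w S₁ + F ends A N w S₂ := by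
  simp only [F]
  rw [← hu, sum_union hd, add_add_add_comm, ← sum_add_distrib]
  congr 1
  refine sum_congr rfl fun e he => ?_
  have h := hnc e he
  rw [← hu] at h
  have d1 : (ends e).1 ∈ S₁ → (ends e).1 ∉ S₂ := fun h => disjoint_left.1 hd h
  have d2 : (ends e).2 ∈ S₁ → (ends e).2 ∉ S₂ := fun h => disjoint_left.1 hd h
  simp only [gTerm, Cross, mem_union] at *
  by_cases a1 : (ends e).1 ∈ S₁ <;> by_cases a2 : (ends e).2 ∈ S₁ <;>
    by_cases b1 : (ends e).1 ∈ S₂ <;> by_cases b2 : (ends e).2 ∈ S₂ <;>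
    by_cases c : e ∈ N <;> simp_all <;> (try ring)

theorem F_cosplit {A N : Finset E} {w : V → ℝ} {S T₁ T₂ : Finset V} (hd : Disjoint T₁ T₂) (hu : T₁ ∪ T₂ = Sᶜ)
    (hnc : ∀ e ∈ A, (ends e).1 ∈ Sᶜ → (ends e).2 ∈ Sᶜ → ((ends e).1 ∈ T₁ ↔ (ends e).2 ∈ T₁)) :
    F ends A N w (S ∪ T₁) + F ends A N w (S ∪ T₂) = F ends A N w S + F ends A N w univ := by
  have d1 : Disjoint S T₁ := disjoint_left.2 fun x hx hx' => by
    have : x ∈ Sᶜ := hu ▸ mem_union_left _ hx'
    exact mem_compl.1 this hx
  have d2 : Disjoint S T₂ := disjoint_left.2 fun x hx hx' => by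
    have : x ∈ Sᶜ := hu ▸ mem_union_right _ hx'
    exact mem_compl.1 this hx
  have hw : (∑ v ∈ S ∪ T₁, w v) + (∑ v ∈ S ∪ T₂, w v) = (∑ v ∈ S, w v) + ∑ v, w v := by
    rw [sum_union d1, sum_union d2, ← sum_add_sum_compl S w, ← hu, sum_union hd]; ring
  have hg : (∑ e ∈ A, gTerm ends N (S ∪ T₁) e) + (∑ e ∈ A, gTerm ends N (S ∪ T₂) e)
      = (∑ e ∈ A, gTerm ends N S e) + ∑ e ∈ A, gTerm ends N univ e := by
    rw [← sum_add_distrib, ← sum_add_distrib]
    refine sum_congr rfl fun e he => ?_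
    have h := hnc e he
    have hm : ∀ x, x ∈ S ∨ (x ∉ S ∧ x ∈ T₁ ∧ x ∉ T₂) ∨ (x ∉ S ∧ x ∉ T₁ ∧ x ∈ T₂) := fun x => by
      by_cases hx : x ∈ S
      · exact Or.inl hx
      · have : x ∈ T₁ ∪ T₂ := hu ▸ mem_compl.2 hx
        rcases mem_union.1 this with h | h
        · exact Or.inr (Or.inl ⟨hx, h, disjoint_left.1 hd h⟩)
        · exact Or.inr (Or.inr ⟨hx, disjoint_right.1 hd h, h⟩)
    have bad : ¬((ends e).1 ∈ T₁ ∧ (ends e).2 ∈ T₂) ∧ ¬((ends e).1 ∈ T₂ ∧ (ends e).2 ∈ T₁) := by
      constructor <;> rintro ⟨a, b⟩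
      · exact disjoint_left.1 hd ((h (hu ▸ mem_union_left _ a) (hu ▸ mem_union_right _ b)).1 a) b
      · exact disjoint_left.1 hd ((h (hu ▸ mem_union_right _ a) (hu ▸ mem_union_left _ b)).2 b) a
    have q1 := fun hh : (ends e).1 ∈ S => And.intro (disjoint_left.1 d1 hh) (disjoint_left.1 d2 hh)
    have q2 := fun hh : (ends e).2 ∈ S => And.intro (disjoint_left.1 d1 hh) (disjoint_left.1 d2 hh)
    simp only [gTerm, Cross, mem_union, mem_compl, mem_univ] at *
    rcases hm (ends e).1 with a | a | a <;> rcases hm (ends e).2 with b | b | b <;>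
      first
      | (exfalso; exact bad.1 ⟨a.2.1, b.2.2⟩)
      | (exfalso; exact bad.2 ⟨a.2.2, b.2.1⟩)
      | (by_cases c : e ∈ N <;> simp_all <;> (try ring))
  simp only [F]; linarith

theorem criterion {A N : Finset E} {w : V → ℝ} (hA : InConn ends A univ) (htot : F ends A N w univ = 0)
    (Q : ℝ → Prop) (hQ : ∀ a b, Q a → Q b → Q (a + b))
    (h : ∀ S : Finset V, S.Nonempty → Sᶜ.Nonempty → InConn ends A S → InConn ends A Sᶜ → Q (F ends A N w S)) :
    ∀ S : Finset V, S.Nonempty → S ≠ univ → Q (F ends A N w S) := by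
  have step : ∀ n (S : Finset V), Sᶜ.card ≤ n → S.Nonempty → Sᶜ.Nonempty → InConn ends A S → Q (F ends A N w S) := by
    intro n
    induction n with
    | zero => intro S hn _ hc _; have := hc.card_pos; omega
    | succ n ih =>
      intro S hn hS hc hconn
      by_cases hcc : InConn ends A Sᶜ
      · exact h S hS hc hconn hcc
      obtain ⟨T₁, T₂, n1, n2, hd, hu, hnc⟩ := exists_split hcc
      have hnc' : ∀ e ∈ A, (ends e).1 ∈ Sᶜ → (ends e).2 ∈ Sᶜ → ((ends e).1 ∈ T₂ ↔ (ends e).2 ∈ T₂) := by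
        intro e he a b
        have := hnc e he a b
        rw [← hu, mem_union] at a b
        have d1 : (ends e).1 ∈ T₁ → (ends e).1 ∉ T₂ := fun h => disjoint_left.1 hd h
        have d2 : (ends e).2 ∈ T₁ → (ends e).2 ∉ T₂ := fun h => disjoint_left.1 hd h
        tauto
      have c1 : (S ∪ T₁)ᶜ = T₂ := by
        rw [compl_union, ← sdiff_eq_inter_compl, ← hu, union_sdiff_left, sdiff_eq_self_of_disjoint hd.symm]
      have c2 : (S ∪ T₂)ᶜ = T₁ := by
        rw [compl_union, ← sdiff_eq_inter_compl, ← hu, union_sdiff_right, sdiff_eq_self_of_disjoint hd]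
      have k : Sᶜ.card = T₁.card + T₂.card := by rw [← hu, card_union_of_disjoint hd]
      have l1 := n1.card_pos
      have l2 := n2.card_pos
      have := hQ _ _
        (ih (S ∪ T₁) (by rw [c1]; omega) (hS.mono subset_union_left) (c1.symm ▸ n2) (inConn_union hA hconn hS hu hnc))
        (ih (S ∪ T₂) (by rw [c2]; omega) (hS.mono subset_union_left) (c2.symm ▸ n1) (inConn_union hA hconn hS (union_comm T₂ T₁ ▸ hu) hnc'))
      rwa [F_cosplit hd hu hnc, htot, add_zero] at this
  have main : ∀ n (S : Finset V), S.card ≤ n → S.Nonempty → S ≠ univ → Q (F ends A N w S) := by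
    intro n
    induction n with
    | zero => intro S hn hS _; have := hS.card_pos; omega
    | succ n ih =>
      intro S hn hS hne
      have hc : Sᶜ.Nonempty := by rwa [nonempty_iff_ne_empty, ne_eq, compl_eq_empty_iff]
      by_cases hconn : InConn ends A S
      · exact step _ S le_rfl hS hc hconn
      obtain ⟨S₁, S₂, n1, n2, hd, hu, hnc⟩ := exists_split hconn
      have k : S.card = S₁.card + S₂.card := by rw [← hu, card_union_of_disjoint hd]
      have l1 := n1.card_pos
      have l2 := n2.card_pos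
      rw [F_split hd hu hnc]
      have p1 : S₁ ≠ univ := fun h => by rw [h] at hu; exact hne (by rw [← hu]; simp)
      have p2 : S₂ ≠ univ := fun h => by rw [h] at hu; exact hne (by rw [← hu]; simp)
      exact hQ _ _ (ih S₁ (by omega) n1 p1) (ih S₂ (by omega) n2 p2)
  exact fun S => main _ S le_rfl

end Criterion

section Tree

variable (ends)

def inc (e : E) (v : V) : ZMod 2 :=
  (if (ends e).1 = v then 1 else 0) + (if (ends e).2 = v then 1 else 0)

def IndepEdges (A : Finset E) : Prop :=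
  ∀ C ⊆ A, (∀ v : V, ∑ e ∈ C, inc ends e v = 0) → C = ∅

structure IsTreeOn (A : Finset E) : Prop where
  nonempty : Nonempty V
  conn : InConn ends A univ
  indep : IndepEdges ends A

variable {ends}

theorem sum_inc (e : E) (R : Finset V) :
    ∑ v ∈ R, inc ends e v = (if (ends e).1 ∈ R then 1 else 0) + (if (ends e).2 ∈ R then 1 else 0) := by
  simp [inc, sum_add_distrib]

theorem card_eq {A : Finset E} {S : Finset V} (hne : S.Nonempty) (hS : InConn ends A S)
    (hin : ∀ e ∈ A, (ends e).1 ∈ S ∧ (ends e).2 ∈ S) (hind : IndepEdges ends A) :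
    S.card = A.card + 1 := by
  classical
  let D : (↥A → ZMod 2) →ₗ[ZMod 2] (↥S → ZMod 2) :=
    { toFun := fun x v => ∑ e : ↥A, x e * inc ends e.1 v.1
      map_add' := fun x y => funext fun v => by simp [add_mul, sum_add_distrib]
      map_smul' := fun c x => funext fun v => by simp [mul_sum, mul_assoc] }
  let σ : (↥S → ZMod 2) →ₗ[ZMod 2] ZMod 2 :=
    { toFun := fun f => ∑ v, f v
      map_add' := fun x y => by simp [sum_add_distrib]
      map_smul' := fun c x => by simp [mul_sum] }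
  have z2 : ∀ x : ZMod 2, x = 0 ∨ x = 1 := by decide
  have inj : Function.Injective D := by
    rw [injective_iff_map_eq_zero]
    intro x hx
    let C : Finset E := (univ.filter fun e : ↥A => x e ≠ 0).map ⟨Subtype.val, Subtype.val_injective⟩
    have hC : C = ∅ := hind C (fun e he => by simp [C] at he; exact he.1) fun v => by
      by_cases hv : v ∈ S
      · refine Eq.trans ?_ (congrFun hx ⟨v, hv⟩)
        rw [sum_map, sum_filter]
        refine sum_congr rfl fun e _ => ?_
        rcases z2 (x e) with h | h <;> simp [h]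
      · refine sum_eq_zero fun e he => ?_
        simp [C] at he
        obtain ⟨he, -⟩ := he
        obtain ⟨a, b⟩ := hin e he
        rw [inc, if_neg (fun h => hv (by rwa [← h])), if_neg (fun h => hv (by rwa [← h])), add_zero]
    funext e
    by_contra he
    have : (e : E) ∈ C := by simp [C]; exact he
    rw [hC] at this; simp at this
  obtain ⟨s, hs⟩ := hne
  have hσ : Function.Surjective σ := fun c => ⟨Pi.single ⟨s, hs⟩ c, by simp [σ]⟩
  have hrange : LinearMap.range D = LinearMap.ker σ := by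
    refine le_antisymm ?_ ?_
    · rintro _ ⟨x, rfl⟩
      change ∑ v : ↥S, ∑ e : ↥A, x e * inc ends e.1 v.1 = 0
      rw [sum_comm]
      refine sum_eq_zero fun e _ => ?_
      rw [← mul_sum, sum_coe_sort S (fun v => inc ends e.1 v), sum_inc, if_pos (hin _ e.2).1, if_pos (hin _ e.2).2,
        show (1 : ZMod 2) + 1 = 0 by decide, mul_zero]
    · intro f hf
      have key : ∀ b, Relation.ReflTransGen (Link ends A S) s b → ∀ hb : b ∈ S,
          (Pi.single ⟨b, hb⟩ 1 + Pi.single ⟨s, hs⟩ 1 : ↥S → ZMod 2) ∈ LinearMap.range D := by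
        intro b h
        induction h with
        | refl =>
          intro _
          convert Submodule.zero_mem (LinearMap.range D) using 1
          funext v
          by_cases h : v = ⟨s, hs⟩ <;> simp [h, show (1 : ZMod 2) + 1 = 0 by decide]
        | @tail b c _ hbc ih =>
          intro hc
          obtain ⟨hb, -, e, he, heq⟩ := hbc
          have h1 : D (Pi.single ⟨e, he⟩ 1) = (Pi.single ⟨b, hb⟩ 1 + Pi.single ⟨c, hc⟩ 1 : ↥S → ZMod 2) := by
            funext v
            change ∑ e' : ↥A, (Pi.single ⟨e, he⟩ 1 : ↥A → ZMod 2) e' * inc ends e'.1 v.1 = _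
            rw [sum_eq_single ⟨e, he⟩ (fun e' _ h => by simp [h]) (by simp)]
            rcases heq with h | h <;> simp [inc, h, Pi.single_apply, Subtype.ext_iff, eq_comm, add_comm]
          convert Submodule.add_mem _ (ih hb) (LinearMap.mem_range.2 ⟨_, h1⟩) using 1
          funext v
          simp only [Pi.add_apply]
          generalize (Pi.single (⟨b, hb⟩ : ↥S) (1 : ZMod 2) : ↥S → ZMod 2) v = p
          generalize (Pi.single (⟨c, hc⟩ : ↥S) (1 : ZMod 2) : ↥S → ZMod 2) v = q
          generalize (Pi.single (⟨s, hs⟩ : ↥S) (1 : ZMod 2) : ↥S → ZMod 2) v = r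
          exact (by decide : ∀ p q r : ZMod 2, q + r = p + r + (p + q)) p q r
      have : f = ∑ v : ↥S, f v • (Pi.single v 1 + Pi.single ⟨s, hs⟩ 1 : ↥S → ZMod 2) := by
        rw [LinearMap.mem_ker] at hf
        change ∑ v, f v = 0 at hf
        funext u
        simp [sum_add_distrib, Pi.single_apply]
        intro _; rw [← univ_eq_attach]; exact hf
      rw [this]
      exact Submodule.sum_mem _ fun v _ => Submodule.smul_mem _ _ (key v.1 (hS s hs v.1 v.2) v.2)
  have r1 := LinearMap.finrank_range_add_finrank_ker σ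
  rw [LinearMap.range_eq_top.2 hσ, finrank_top] at r1
  have r2 := LinearMap.finrank_range_of_inj inj
  rw [hrange] at r2
  simp at r1 r2
  omega

theorem indep_mono {A B : Finset E} (h : IndepEdges ends A) (hB : B ⊆ A) : IndepEdges ends B :=
  fun C hC => h C (hC.trans hB)

theorem card_univ_eq {A : Finset E} (hA : IsTreeOn ends A) : Fintype.card V = A.card + 1 := by
  obtain ⟨v⟩ := hA.nonempty
  simpa using card_eq ⟨v, mem_univ v⟩ hA.conn (fun _ _ => ⟨mem_univ _, mem_univ _⟩) hA.indep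

variable (ends)

noncomputable def sideA (A : Finset E) (e : E) : Finset V := reach ends (A.erase e) univ (ends e).1

def inn (A : Finset E) (S : Finset V) : Finset E := A.filter fun e => (ends e).1 ∈ S ∧ (ends e).2 ∈ S

variable {ends}

theorem inConn_inn {A : Finset E} {S : Finset V} (h : InConn ends A S) : InConn ends (inn ends A S) S :=
  fun a ha b hb => (h a ha b hb).lift id fun x y ⟨hx, hy, e, he, h⟩ => ⟨hx, hy, e, by
    rcases h with h | h <;> simp [inn, he, h, hx, hy], h⟩

theorem sideA_spec {A : Finset E} (hA : IsTreeOn ends A) {e : E} (he : e ∈ A) :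
    (ends e).1 ∈ sideA ends A e ∧ (ends e).2 ∉ sideA ends A e ∧
      (∀ f ∈ A.erase e, ((ends f).1 ∈ sideA ends A e ↔ (ends f).2 ∈ sideA ends A e)) ∧
      InConn ends A (sideA ends A e) ∧ InConn ends (A.erase e) (sideA ends A e) := by
  have hc : InConn ends (A.erase e) (sideA ends A e) := reach_inConn _ _ _
  have h1 : (ends e).1 ∈ sideA ends A e := mem_reach.2 ⟨mem_univ _, .refl⟩
  have h3 := fun f (hf : f ∈ A.erase e) => reach_no_cross (ends := ends) (A.erase e) univ (ends e).1 f hf (mem_univ _) (mem_univ _)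
  refine ⟨h1, fun h2 => ?_, h3, fun a ha b hb => link_mono (erase_subset _ _) subset_rfl (hc a ha b hb), hc⟩
  -- count on the side
  have k1 := card_eq ⟨_, h1⟩ (inConn_inn hc) (fun f hf => (mem_filter.1 hf).2) (indep_mono hA.indep ((filter_subset _ _).trans (erase_subset _ _)))
  have k2 : (sideA ends A e).card = (insert e (inn ends (A.erase e) (sideA ends A e))).card + 1 := by
    refine card_eq ⟨_, h1⟩ (fun a ha b hb => link_mono (subset_insert _ _) subset_rfl (inConn_inn hc a ha b hb)) ?_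
      (indep_mono hA.indep ?_)
    · intro f hf
      rcases mem_insert.1 hf with rfl | hf
      · exact ⟨h1, h2⟩
      · exact (mem_filter.1 hf).2
    · exact insert_subset he ((filter_subset _ _).trans (erase_subset _ _))
  rw [card_insert_of_notMem (by simp [inn])] at k2
  omega

theorem card_sideA {A : Finset E} (hA : IsTreeOn ends A) {e : E} (he : e ∈ A) :
    (sideA ends A e).card = (inn ends A (sideA ends A e)).card + 1 := by
  obtain ⟨h1, -, -, h4, -⟩ := sideA_spec hA he
  exact card_eq ⟨_, h1⟩ (inConn_inn h4) (fun f hf => (mem_filter.1 hf).2) (indep_mono hA.indep (filter_subset _ _))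

theorem exists_cross {A : Finset E} (hA : IsTreeOn ends A) {S : Finset V} (h1 : S.Nonempty) (h2 : Sᶜ.Nonempty)
    (c1 : InConn ends A S) (c2 : InConn ends A Sᶜ) :
    ∃ e ∈ A, (∀ f ∈ A, Cross ends S f ↔ f = e) ∧ (S = sideA ends A e ∨ Sᶜ = sideA ends A e) := by
  have k1 := card_eq h1 (inConn_inn c1) (fun f hf => (mem_filter.1 hf).2) (indep_mono hA.indep (filter_subset _ _))
  have k2 := card_eq h2 (inConn_inn c2) (fun f hf => (mem_filter.1 hf).2) (indep_mono hA.indep (filter_subset _ _))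
  have k := card_univ_eq hA
  rw [← card_add_card_compl S] at k
  have hpart : A.card = (inn ends A S).card + (inn ends A Sᶜ).card + (A.filter (Cross ends S)).card := by
    simp only [inn, card_filter, card_eq_sum_ones A, ← sum_add_distrib]
    refine sum_congr rfl fun f _ => ?_
    by_cases a : (ends f).1 ∈ S <;> by_cases b : (ends f).2 ∈ S <;> simp [Cross, a, b]
  obtain ⟨e, he⟩ := card_eq_one.1 (show (A.filter (Cross ends S)).card = 1 by omega)
  have hmem : ∀ f ∈ A, Cross ends S f ↔ f = e := fun f hf => by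
    rw [← mem_singleton, ← he, mem_filter]; simp [hf]
  have heA : e ∈ A ∧ Cross ends S e := by rw [← mem_filter, he]; exact mem_singleton_self e
  refine ⟨e, heA.1, hmem, ?_⟩
  have key : ∀ R : Finset V, InConn ends A R → (ends e).1 ∈ R → (ends e).2 ∉ R →
      (∀ f ∈ A, f ≠ e → ((ends f).1 ∈ R ↔ (ends f).2 ∈ R)) → R = sideA ends A e := by
    intro R hR hr1 hr2 hcl
    ext v
    rw [sideA, mem_reach]
    refine ⟨fun hv => ⟨mem_univ v, ?_⟩, ?_⟩
    · refine (hR _ hr1 _ hv).lift id fun x y ⟨hx, hy, f, hf, h⟩ => ⟨mem_univ _, mem_univ _, f, mem_erase.2 ⟨?_, hf⟩, h⟩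
      rintro rfl
      rcases h with h | h <;> rw [h] at hr2 <;> contradiction
    · rintro ⟨-, hv⟩
      induction hv with
      | refl => exact hr1
      | tail _ h ih =>
        obtain ⟨-, -, f, hf, hh⟩ := h
        have := hcl f (mem_erase.1 hf).2 (mem_erase.1 hf).1
        rcases hh with hh | hh <;> rw [hh] at this
        · exact this.1 ih
        · exact this.2 ih
  rcases heA.2 with ⟨a, b⟩ | ⟨a, b⟩
  · refine Or.inl (key S c1 a b fun f hf hne => ?_)
    have := mt (hmem f hf).1 hne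
    simp only [Cross] at this; tauto
  · refine Or.inr (key Sᶜ c2 (mem_compl.2 a) (by simpa using b) fun f hf hne => ?_)
    have := mt (hmem f hf).1 hne
    simp only [Cross, mem_compl] at this ⊢; tauto

variable (ends)

def sol {R : Type} [CommRing R] (A : Finset E) (c : E → R) (c0 : R) (v : V) : R :=
  c0 - ∑ e ∈ A, ((if (ends e).1 = v then c0 - c e else 0) + (if (ends e).2 = v then c e else 0))

variable {ends}

theorem sum_sol {R : Type} [CommRing R] (A : Finset E) (c : E → R) (c0 : R) (S : Finset V) :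
    ∑ v ∈ S, sol ends A c c0 v = S.card * c0 -
      ∑ e ∈ A, ((if (ends e).1 ∈ S then c0 - c e else 0) + (if (ends e).2 ∈ S then c e else 0)) := by
  simp only [sol, sum_sub_distrib, sum_const, nsmul_eq_mul]
  rw [sum_comm]
  simp [sum_add_distrib]

theorem sol_total {R : Type} [CommRing R] {A : Finset E} (hA : IsTreeOn ends A) (c : E → R) (c0 : R) :
    ∑ v, sol ends A c c0 v = c0 := by
  rw [sum_sol, card_univ, card_univ_eq hA]
  simp [sum_const]; ring

theorem sol_side {R : Type} [CommRing R] {A : Finset E} (hA : IsTreeOn ends A) (c : E → R) (c0 : R) {e : E}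
    (he : e ∈ A) : ∑ v ∈ sideA ends A e, sol ends A c c0 v = c e := by
  obtain ⟨h1, h2, h3, -, -⟩ := sideA_spec hA he
  rw [sum_sol, card_sideA hA he, ← add_sum_erase A _ he, if_pos h1, if_neg h2]
  have key : inn ends A (sideA ends A e) = (A.erase e).filter (fun f => (ends f).1 ∈ sideA ends A e) := by
    ext f
    simp only [inn, mem_filter, mem_erase]
    constructor
    · rintro ⟨hf, a, b⟩
      exact ⟨⟨fun h => h2 (h ▸ b), hf⟩, a⟩
    · rintro ⟨⟨hne, hf⟩, a⟩
      exact ⟨hf, a, (h3 f (mem_erase.2 ⟨hne, hf⟩)).1 a⟩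
  have : ∑ f ∈ A.erase e, ((if (ends f).1 ∈ sideA ends A e then c0 - c f else 0) + (if (ends f).2 ∈ sideA ends A e then c f else 0))
      = (inn ends A (sideA ends A e)).card * c0 := by
    rw [key, card_filter, Nat.cast_sum, sum_mul]
    refine sum_congr rfl fun f hf => ?_
    by_cases a : (ends f).1 ∈ sideA ends A e
    · rw [if_pos a, if_pos ((h3 f hf).1 a), if_pos a]; push_cast; ring
    · rw [if_neg a, if_neg (mt (h3 f hf).2 a), if_neg a]; push_cast; ring
  rw [this]; push_cast; ring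

theorem eq_of_sums {A : Finset E} (hA : IsTreeOn ends A) {φ ψ : V → ℝ}
    (hs : ∀ e ∈ A, ∑ v ∈ sideA ends A e, φ v = ∑ v ∈ sideA ends A e, ψ v) (ht : ∑ v, φ v = ∑ v, ψ v) : φ = ψ := by
  classical
  let L : (V → ℝ) →ₗ[ℝ] (↥A → ℝ) × ℝ :=
    { toFun := fun f => (fun e => ∑ v ∈ sideA ends A e.1, f v, ∑ v, f v)
      map_add' := fun f g => by ext <;> simp [sum_add_distrib]
      map_smul' := fun c f => by ext <;> simp [mul_sum] }
  have surj : Function.Surjective L := by
    rintro ⟨c, c0⟩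
    refine ⟨sol ends A (fun e => if h : e ∈ A then c ⟨e, h⟩ else 0) c0, ?_⟩
    ext e
    · exact (sol_side hA _ c0 e.2).trans (by simp [e.2])
    · exact sol_total hA _ c0
  refine (LinearMap.injective_iff_surjective_of_finrank_eq_finrank ?_).2 surj ?_
  · simp [card_univ_eq hA]
  · ext e
    · exact hs e.1 e.2
    · exact ht

end Tree

section Bridge

theorem connected_iff_span (T : Finset E) :
    LabGraph.Connected (PhiStab.spanEnds ends T) ↔ Nonempty V ∧ InConn ends T univ := by
  refine and_congr Iff.rfl ⟨fun h a _ b _ => (h a b).lift id fun x y ⟨e, he⟩ => ⟨mem_univ _, mem_univ _, e.1, e.2, he⟩,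
    fun h a b => (h a (mem_univ _) b (mem_univ _)).lift id fun x y ⟨_, _, e, he, hh⟩ => ⟨⟨e, he⟩, hh⟩⟩

theorem connected_iff_ind (S : Finset V) :
    LabGraph.Connected (PhiStab.indEnds ends S) ↔ S.Nonempty ∧ InConn ends univ S := by
  constructor
  · rintro ⟨⟨v⟩, h⟩
    refine ⟨⟨v.1, v.2⟩, fun a ha b hb => ?_⟩
    refine (h ⟨a, ha⟩ ⟨b, hb⟩).lift Subtype.val fun x y ⟨e, he⟩ => ⟨x.2, y.2, e.1, mem_univ _, ?_⟩
    rcases he with he | he
    · exact Or.inl (Prod.ext (congrArg (fun p => (p.1 : V)) he) (congrArg (fun p => (p.2 : V)) he))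
    · exact Or.inr (Prod.ext (congrArg (fun p => (p.1 : V)) he) (congrArg (fun p => (p.2 : V)) he))
  · rintro ⟨⟨v, hv⟩, h⟩
    refine ⟨⟨⟨v, hv⟩⟩, ?_⟩
    rintro ⟨a, ha⟩ ⟨b, hb⟩
    have hab := h a ha b hb
    clear h hv
    revert hb
    induction hab with
    | refl => intro _; exact .refl
    | @tail x y _ hxy ih =>
      intro hy
      obtain ⟨hx, -, e, -, hh⟩ := hxy
      refine (ih hx).tail ⟨⟨e, mem_filter.2 ⟨mem_univ _, by rcases hh with hh | hh <;> rw [hh] <;> exact ⟨by assumption, by assumption⟩⟩⟩, ?_⟩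
      rcases hh with hh | hh
      · exact Or.inl (Prod.ext (Subtype.ext (congrArg Prod.fst hh)) (Subtype.ext (congrArg Prod.snd hh)))
      · exact Or.inr (Prod.ext (Subtype.ext (congrArg Prod.fst hh)) (Subtype.ext (congrArg Prod.snd hh)))

theorem even_endCount {E' : Type u} [Fintype E'] [DecidableEq E'] (en : E' → V × V) (C : Finset E') (v : V) :
    Even (LabGraph.endCount en C v) ↔ ∑ e ∈ C, inc en e v = 0 := by
  rw [← ZMod.natCast_eq_zero_iff_even, LabGraph.endCount]
  simp [inc]

theorem forest_iff {E' : Type u} [Fintype E'] [DecidableEq E'] (en : E' → V × V) :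
    DualGr.IsForest en ↔ IndepEdges en univ := by
  constructor
  · intro h C
    induction C using Finset.strongInduction with
    | H C ih =>
      intro _ hC
      by_contra hne
      refine h C ⟨nonempty_iff_ne_empty.2 hne, fun v => (even_endCount en C v).2 (hC v), fun C' hC' hne' => ?_⟩
      by_contra! hh
      exact hne'.ne_empty (ih C' hC' (subset_univ _) fun v => (even_endCount en C' v).1 (hh v))
  · intro h C hC
    exact hC.1.ne_empty (h C (subset_univ _) fun v => (even_endCount en C v).1 (hC.2.1 v))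

theorem isTree_span_iff (T : Finset E) : DualGr.IsTree (PhiStab.spanEnds ends T) ↔ IsTreeOn ends T := by
  rw [DualGr.IsTree, connected_iff_span, forest_iff]
  constructor
  · rintro ⟨⟨h1, h2⟩, h3⟩
    refine ⟨h1, h2, fun C hC hsum => ?_⟩
    have := h3 (C.subtype (· ∈ T)) (subset_univ _) fun v => by
      rw [← hsum v, ← sum_subtype_of_mem (fun e => inc ends e v) (fun x hx => hC hx)]; rfl
    rw [← card_eq_zero, card_subtype, filter_true_of_mem (fun x hx => hC hx), card_eq_zero] at this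
    exact this
  · rintro ⟨h1, h2, h3⟩
    refine ⟨⟨h1, h2⟩, fun C _ hsum => ?_⟩
    have := h3 (C.map ⟨Subtype.val, Subtype.val_injective⟩) (fun e he => by simp at he; exact he.1) fun v => by
      rw [sum_map]; exact hsum v
    simpa using this

theorem isTree_iff : DualGr.IsTree ends ↔ IsTreeOn ends univ := by
  rw [DualGr.IsTree, forest_iff]
  refine ⟨fun ⟨⟨h1, h2⟩, h3⟩ => ⟨h1, fun a _ b _ => (h2 a b).lift id fun x y ⟨e, he⟩ => ⟨mem_univ _, mem_univ _, e, mem_univ _, he⟩, h3⟩,
    fun ⟨h1, h2, h3⟩ => ⟨⟨h1, fun a b => (h2 a (mem_univ _) b (mem_univ _)).lift id fun x y ⟨_, _, e, _, hh⟩ => ⟨e, hh⟩⟩, h3⟩⟩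

theorem side_eq (e : E) : PhiStab.side ends e = sideA ends univ e := by
  ext v
  simp only [PhiStab.side, sideA, mem_reach, mem_filter, mem_univ, true_and]
  exact ⟨fun h => h.lift id fun x y ⟨f, hf⟩ => ⟨mem_univ _, mem_univ _, f.1, f.2, hf⟩,
    fun h => h.lift id fun x y ⟨_, _, f, hf, hh⟩ => ⟨⟨f, hf⟩, hh⟩⟩

theorem F_eq (φ : V → ℝ) (m : V → ℤ) (N : Finset E) (S : Finset V) :
    F ends univ N (fun v => (m v : ℝ) - φ v) S =
      (PhiStab.degOn ends m N S : ℝ) - ((∑ v ∈ S, φ v) - (LabGraph.cut ends S : ℝ) / 2) := by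
  simp only [F, gTerm, sum_sub_distrib, sum_add_distrib, ← sum_div, sum_boole, PhiStab.degOn, PhiStab.inner, LabGraph.cut, Cross]
  have : (univ.filter fun e : E => e ∈ N ∧ (ends e).1 ∈ S ∧ (ends e).2 ∈ S) = N ∩ univ.filter (fun e : E => (ends e).1 ∈ S ∧ (ends e).2 ∈ S) := by
    ext; simp
  rw [this]; push_cast; ring

theorem F_univ (φ : V → ℝ) (m : V → ℤ) (N : Finset E) :
    F ends univ N (fun v => (m v : ℝ) - φ v) univ = (PhiStab.totDeg m N : ℝ) - ∑ v, φ v := by
  rw [F_eq]
  have h1 : LabGraph.cut ends (univ : Finset V) = 0 := by simp [LabGraph.cut]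
  simp [h1, PhiStab.totDeg, PhiStab.degOn, PhiStab.inner]

/-- criterion on elementary sets -/
theorem elementary_criterion (hconn : LabGraph.Connected ends)
    (φ : V → ℝ) (m : V → ℤ) (N : Finset E) (hdeg : (∑ v : V, φ v) = (PhiStab.totDeg m N : ℝ))
    (Q : ℝ → Prop) (hQ : ∀ a b, Q a → Q b → Q (a + b))
    (h : ∀ S, PhiStab.IsElementary ends S → Q ((PhiStab.degOn ends m N S : ℝ) - ((∑ v ∈ S, φ v) - (LabGraph.cut ends S : ℝ) / 2))) :
    ∀ S : Finset V, S.Nonempty → S ≠ univ →
      Q ((PhiStab.degOn ends m N S : ℝ) - ((∑ v ∈ S, φ v) - (LabGraph.cut ends S : ℝ) / 2)) := by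
  intro S hS hne
  rw [← F_eq]
  refine criterion (fun a _ b _ => (hconn.2 a b).lift id fun x y ⟨e, he⟩ => ⟨mem_univ _, mem_univ _, e, mem_univ _, he⟩)
    (by rw [F_univ, hdeg, sub_self]) Q hQ (fun R h1 h2 c1 c2 => ?_) S hS hne
  rw [F_eq]
  exact h R ⟨(connected_iff_ind R).2 ⟨h1, c1⟩, (connected_iff_ind Rᶜ).2 ⟨h2, c2⟩⟩

theorem elementary_proper {S : Finset V} (h : PhiStab.IsElementary ends S) : S.Nonempty ∧ S ≠ univ := by
  refine ⟨((connected_iff_ind S).1 h.1).1, fun he => ?_⟩
  have := ((connected_iff_ind Sᶜ).1 h.2).1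
  simp [he] at this

theorem semistable_iff_elementary (hconn : LabGraph.Connected ends)
    (φ : V → ℝ) (m : V → ℤ) (N : Finset E) (hdeg : (∑ v : V, φ v) = (PhiStab.totDeg m N : ℝ)) :
    (PhiStab.IsSemistable ends φ m N ↔
      ∀ S : Finset V, PhiStab.IsElementary ends S →
        (∑ v ∈ S, φ v) - (LabGraph.cut ends S : ℝ) / 2 ≤ (PhiStab.degOn ends m N S : ℝ)) ∧
    (PhiStab.IsStable ends φ m N ↔
      ∀ S : Finset V, PhiStab.IsElementary ends S →
        (∑ v ∈ S, φ v) - (LabGraph.cut ends S : ℝ) / 2 < (PhiStab.degOn ends m N S : ℝ)) := by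
  refine ⟨⟨fun h S hS => h S (elementary_proper hS).1 (elementary_proper hS).2, fun h S h1 h2 => ?_⟩,
    ⟨fun h S hS => h S (elementary_proper hS).1 (elementary_proper hS).2, fun h S h1 h2 => ?_⟩⟩
  · have := elementary_criterion hconn φ m N hdeg (0 ≤ ·) (fun _ _ => add_nonneg) (fun R hR => sub_nonneg.2 (h R hR)) S h1 h2
    exact sub_nonneg.1 this
  · have := elementary_criterion hconn φ m N hdeg (0 < ·) (fun _ _ => add_pos) (fun R hR => sub_pos.2 (h R hR)) S h1 h2
    exact sub_pos.1 this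

variable (ends) in
/-- weight on the tree after removing the edges outside -/
noncomputable def psi (φ : V → ℝ) (T : Finset E) (v : V) : ℝ :=
  φ v - (∑ e ∈ Tᶜ, ((if (ends e).1 = v then 1 else 0) + (if (ends e).2 = v then 1 else 0) : ℝ)) / 2

theorem F_tree (φ : V → ℝ) (m : V → ℤ) (T : Finset E) (S : Finset V) :
    F ends univ Tᶜ (fun v => (m v : ℝ) - φ v) S = F ends T ∅ (fun v => (m v : ℝ) - psi ends φ T v) S := by
  simp only [F, psi, sum_sub_distrib]
  rw [← sum_add_sum_compl T, ← sum_div, sum_comm (s := S)]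
  have a : ∀ e ∈ T, gTerm ends Tᶜ S e = gTerm ends ∅ S e := fun e he => by simp [gTerm, he]
  have b : ∀ e ∈ Tᶜ, gTerm ends Tᶜ S e =
      (∑ v ∈ S, ((if (ends e).1 = v then 1 else 0) + (if (ends e).2 = v then 1 else 0) : ℝ)) / 2 := fun e he => by
    simp only [sum_add_distrib, sum_ite_eq, gTerm, Cross, he, true_and]
    by_cases a : (ends e).1 ∈ S <;> by_cases b : (ends e).2 ∈ S <;> simp [a, b]
  rw [sum_congr rfl a, sum_congr rfl b, ← sum_div]; ring

theorem F_single {T : Finset E} (w : V → ℝ) (S : Finset V) {e : E} (he : e ∈ T)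
    (h : ∀ f ∈ T, Cross ends S f ↔ f = e) : F ends T ∅ w S = (∑ v ∈ S, w v) + 1 / 2 := by
  rw [F, sum_eq_single e (fun f hf hne => by simp [gTerm, (h f hf).not.2 hne]) (fun h => absurd he h)]
  simp [gTerm, (h e he).2 rfl]

theorem cross_side {T : Finset E} (hT : IsTreeOn ends T) {e : E} (he : e ∈ T) :
    ∀ f ∈ T, Cross ends (sideA ends T e) f ↔ f = e := by
  obtain ⟨h1, h2, h3, -, -⟩ := sideA_spec hT he
  intro f hf
  constructor
  · intro h
    by_contra hne
    have := h3 f (mem_erase.2 ⟨hne, hf⟩)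
    simp only [Cross] at h; tauto
  · rintro rfl; exact Or.inl ⟨h1, h2⟩

theorem cross_compl {T : Finset E} {S : Finset V} {e : E} (h : ∀ f ∈ T, Cross ends S f ↔ f = e) :
    ∀ f ∈ T, Cross ends Sᶜ f ↔ f = e := by
  intro f hf; rw [← h f hf]; simp only [Cross, mem_compl]; tauto

theorem existsUnique_stable (T : Finset E) (hT : IsTreeOn ends T) (b : ℤ) (φ : V → ℝ)
    (hφ : (∑ v : V, φ v) = (b : ℝ)) (hnd : PhiStab.Nondegenerate ends φ) :
    ∃! m : V → ℤ, PhiStab.totDeg m Tᶜ = b ∧ PhiStab.IsStable ends φ m Tᶜ := by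
  classical
  set x : E → ℝ := fun e => (∑ v ∈ sideA ends T e, psi ends φ T v) - 1 / 2
  let m : V → ℤ := sol ends T (fun e => ⌊x e⌋ + 1) (b - (Tᶜ).card)
  have hM : ∀ e ∈ T, ∑ v ∈ sideA ends T e, m v = ⌊x e⌋ + 1 := fun e he => sol_side hT _ _ he
  have htot : PhiStab.totDeg m Tᶜ = b := by
    rw [PhiStab.totDeg, sol_total hT]; ring
  -- values at side sets and complements
  have val : ∀ (m' : V → ℤ), PhiStab.totDeg m' Tᶜ = b → ∀ e ∈ T,
      F ends T ∅ (fun v => (m' v : ℝ) - psi ends φ T v) (sideA ends T e) = ((∑ v ∈ sideA ends T e, m' v : ℤ) : ℝ) - x e ∧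
      F ends T ∅ (fun v => (m' v : ℝ) - psi ends φ T v) (sideA ends T e)ᶜ = 1 - (((∑ v ∈ sideA ends T e, m' v : ℤ) : ℝ) - x e) ∧
      (sideA ends T e)ᶜ.Nonempty := by
    intro m' hm' e he
    have hc := cross_side hT he
    have h0 : F ends T ∅ (fun v => (m' v : ℝ) - psi ends φ T v) univ = 0 := by
      rw [← F_tree, F_univ, hm', hφ, sub_self]
    have h0' : ∑ v, ((m' v : ℝ) - psi ends φ T v) = 0 := by
      simpa [F, gTerm, Cross] using h0
    rw [← sum_add_sum_compl (sideA ends T e)] at h0'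
    refine ⟨?_, ?_, ⟨_, mem_compl.2 (sideA_spec hT he).2.1⟩⟩
    · rw [F_single _ _ he hc, sum_sub_distrib]; simp [x]; ring
    · rw [F_single _ _ he (cross_compl hc)]
      simp [x, sum_sub_distrib] at h0' ⊢; linarith
  have semis : PhiStab.IsSemistable ends φ m Tᶜ := by
    intro S h1 h2
    rw [← sub_nonneg, ← F_eq, F_tree]
    refine criterion hT.conn (by rw [← F_tree, F_univ, htot, hφ, sub_self]) (0 ≤ ·) (fun _ _ => add_nonneg) ?_ S h1 h2
    intro R r1 r2 c1 c2
    obtain ⟨e, he, -, hR⟩ := exists_cross hT r1 r2 c1 c2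
    obtain ⟨v1, v2, -⟩ := val m htot e he
    rw [hM e he] at v1 v2
    have f1 := Int.floor_le (x e)
    have f2 := Int.lt_floor_add_one (x e)
    rcases hR with hR | hR
    · rw [hR, v1]; push_cast; linarith
    · rw [← compl_compl R, hR, v2]; push_cast; linarith
  refine ⟨m, ⟨htot, hnd m _ (by rw [hφ, htot]) semis⟩, fun m' ⟨ht', hs'⟩ => ?_⟩
  have key : (fun v => (m' v : ℝ)) = fun v => (m v : ℝ) := by
    refine eq_of_sums hT (fun e he => ?_) ?_
    · obtain ⟨v1, v2, hne⟩ := val m' ht' e he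
      have hp : (sideA ends T e).Nonempty := ⟨_, (sideA_spec hT he).1⟩
      have a := hs' _ hp (fun h => by simp [h] at hne)
      have a' := hs' _ hne (fun h => hp.ne_empty (compl_eq_univ_iff _ |>.1 h))
      rw [← sub_pos, ← F_eq, F_tree] at a a'
      rw [v1] at a; rw [v2] at a'
      push_cast at a a'
      have : ∑ v ∈ sideA ends T e, m' v = ⌊x e⌋ + 1 := by
        have : ⌊x e⌋ = (∑ v ∈ sideA ends T e, m' v) - 1 := Int.floor_eq_iff.2 ⟨by push_cast; linarith, by push_cast; linarith⟩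
        omega
      rw [← hM e he] at this
      exact_mod_cast this
    · have : ∑ v, m' v = ∑ v, m v := by simp only [PhiStab.totDeg] at ht' htot; omega
      exact_mod_cast this
  funext v
  exact_mod_cast congrFun key v

variable (ends) in
/-- edge sets joining both halves by one given edge -/
def GoodSet (S : Finset V) (e : E) (T : Finset E) : Prop :=
  e ∈ T ∧ (∀ f ∈ T, Cross ends S f ↔ f = e) ∧ InConn ends T S ∧ InConn ends T Sᶜ

theorem exists_tree {S : Finset V} (h1 : S.Nonempty) (c1 : InConn ends univ S) (c2 : InConn ends univ Sᶜ)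
    {e : E} (he : Cross ends S e) : ∃ T, IsTreeOn ends T ∧ GoodSet ends S e T := by
  classical
  let T0 : Finset E := univ.filter (fun f => Cross ends S f → f = e)
  have conn0 : ∀ R : Finset V, (R = S ∨ R = Sᶜ) → InConn ends univ R → InConn ends T0 R := by
    intro R hR h a ha b hb
    refine (h a ha b hb).lift id fun x y ⟨hx, hy, f, _, hf⟩ => ⟨hx, hy, f, mem_filter.2 ⟨mem_univ _, fun hc => ?_⟩, hf⟩
    exfalso
    rcases hR with rfl | rfl <;> rcases hf with hf | hf <;> simp_all [Cross]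
  have g0 : GoodSet ends S e T0 := ⟨by simp [T0],
    fun f hf => ⟨(mem_filter.1 hf).2, fun h => h ▸ he⟩, conn0 S (Or.inl rfl) c1, conn0 _ (Or.inr rfl) c2⟩
  obtain ⟨T, -, hT, hmin⟩ : ∃ T ⊆ T0, GoodSet ends S e T ∧ ∀ T' ⊂ T, ¬ GoodSet ends S e T' := by
    obtain ⟨T, hT, hmin⟩ := exists_min_image (T0.powerset.filter (GoodSet ends S e)) Finset.card ⟨T0, by simp [g0]⟩
    simp only [mem_filter, mem_powerset] at hT hmin
    exact ⟨T, hT.1, hT.2, fun T' hT' hg => absurd (card_lt_card hT') (not_lt.2 (hmin T' ⟨hT'.subset.trans hT.1, hg⟩))⟩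
  obtain ⟨heT, hcr, d1, d2⟩ := hT
  have hconn : InConn ends T univ := by
    have up : ∀ R, InConn ends T R → ∀ a ∈ R, ∀ b ∈ R, Relation.ReflTransGen (Link ends T univ) a b :=
      fun R h a ha b hb => link_mono subset_rfl (subset_univ _) (h a ha b hb)
    have step : Link ends T univ (ends e).1 (ends e).2 := ⟨mem_univ _, mem_univ _, e, heT, Or.inl rfl⟩
    have key : ∀ v, Relation.ReflTransGen (Link ends T univ) (ends e).1 v := by
      intro v
      rcases he with ⟨a, b⟩ | ⟨a, b⟩ <;> by_cases hv : v ∈ S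
      · exact up S d1 _ a _ hv
      · exact (up Sᶜ d2 _ (mem_compl.2 b) _ (mem_compl.2 hv)).head step
      · exact (up S d1 _ b _ hv).head step
      · exact up Sᶜ d2 _ (mem_compl.2 a) _ (mem_compl.2 hv)
    exact fun a _ b _ => (reach_symm (key a)).trans (key b)
  refine ⟨T, ⟨⟨h1.choose⟩, hconn, fun C hC hsum => ?_⟩, heT, hcr, d1, d2⟩
  by_contra hne
  have sumR : ∀ R : Finset V, ∑ f ∈ C, ((if (ends f).1 ∈ R then (1 : ZMod 2) else 0) + (if (ends f).2 ∈ R then 1 else 0)) = 0 := by
    intro R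
    rw [← sum_congr rfl fun f _ => sum_inc f R, sum_comm]
    exact sum_eq_zero fun v _ => hsum v
  have one : ∀ (R : Finset V) (g : E), g ∈ C → Cross ends R g → (∀ f ∈ C, f ≠ g → ((ends f).1 ∈ R ↔ (ends f).2 ∈ R)) → False := by
    intro R g hg hgc hcl
    have h := sumR R
    rw [sum_eq_single g (fun f hf hne => ?_) (fun h => absurd hg h)] at h
    · rcases hgc with ⟨a, b⟩ | ⟨a, b⟩ <;> simp [a, b] at h
    · by_cases a : (ends f).1 ∈ R
      · rw [if_pos a, if_pos ((hcl f hf hne).1 a)]; decide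
      · rw [if_neg a, if_neg (mt (hcl f hf hne).2 a)]; decide
  have heC : e ∉ C := fun h => one S e h he fun f hf hne => by
    have := mt (hcr f (hC hf)).1 hne
    simp only [Cross] at this; tauto
  obtain ⟨g, hg⟩ := nonempty_iff_ne_empty.2 hne
  have hgne : g ≠ e := fun h => heC (h ▸ hg)
  have hgc : ¬ Cross ends S g := mt (hcr g (hC hg)).1 hgne
  refine hmin (T.erase g) (erase_ssubset (hC hg)) ⟨mem_erase.2 ⟨hgne.symm, heT⟩, fun f hf => hcr f (mem_erase.1 hf).2, ?_⟩
  -- connectivity after erasing g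
  have main : ∀ R : Finset V, (R = S ∨ R = Sᶜ) → InConn ends T R → InConn ends (T.erase g) R := by
    intro R hR hconnR a ha b hb
    by_cases hgR : (ends g).1 ∈ R ∧ (ends g).2 ∈ R
    · have hreach : Relation.ReflTransGen (Link ends (T.erase g) R) (ends g).1 (ends g).2 := by
        by_contra hno
        refine one (reach ends (T.erase g) R (ends g).1) g hg
          (Or.inl ⟨mem_reach.2 ⟨hgR.1, .refl⟩, fun h => hno (mem_reach.1 h).2⟩) fun f hf hne => ?_
        have hfe : f ≠ e := fun h => heC (h ▸ hf)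
        have hnc := mt (hcr f (hC hf)).1 hfe
        by_cases hf1 : (ends f).1 ∈ R
        · have hf2 : (ends f).2 ∈ R := by
            rcases hR with rfl | rfl <;> simp only [Cross, mem_compl] at hnc hf1 ⊢ <;> tauto
          exact reach_no_cross _ R _ f (mem_erase.2 ⟨hne, hC hf⟩) hf1 hf2
        · have hf2 : (ends f).2 ∉ R := by
            rcases hR with rfl | rfl <;> simp only [Cross, mem_compl] at hnc hf1 ⊢ <;> tauto
          exact iff_of_false (fun h => hf1 (mem_reach.1 h).1) (fun h => hf2 (mem_reach.1 h).1)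
      refine Relation.reflTransGen_idem.le _ _ ((hconnR a ha b hb).lift id fun x y ⟨hx, hy, f, hf, hh⟩ => ?_)
      by_cases hfg : f = g
      · subst hfg
        rcases hh with hh | hh <;> rw [hh] at hreach
        · exact hreach
        · exact reach_symm hreach
      · exact .single ⟨hx, hy, f, mem_erase.2 ⟨hfg, hf⟩, hh⟩
    · refine (hconnR a ha b hb).lift id fun x y ⟨hx, hy, f, hf, hh⟩ => ⟨hx, hy, f, mem_erase.2 ⟨?_, hf⟩, hh⟩
      rintro rfl
      rcases hh with hh | hh <;> rw [hh] at hgR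
      · exact hgR ⟨hx, hy⟩
      · exact hgR ⟨hy, hx⟩
  exact ⟨main S (Or.inl rfl) d1, main Sᶜ (Or.inr rfl) d2⟩

theorem polytope_iff (hconn : LabGraph.Connected ends) (b : ℤ) (φ₁ φ₂ : V → ℝ) (h₁ : (∑ v : V, φ₁ v) = (b : ℝ))
    (h₂ : (∑ v : V, φ₂ v) = (b : ℝ)) (hnd : PhiStab.Nondegenerate ends φ₁) :
    (∀ (m : V → ℤ) (N : Finset E), PhiStab.totDeg m N = b → PhiStab.IsStable ends φ₁ m N → PhiStab.IsSemistable ends φ₂ m N) ↔
      PhiStab.InClosedPolytope ends φ₁ φ₂ := by
  constructor
  · intro h S hS d hd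
    obtain ⟨n1, c1⟩ := (connected_iff_ind S).1 hS.1
    obtain ⟨n2, c2⟩ := (connected_iff_ind Sᶜ).1 hS.2
    obtain ⟨e, he⟩ : ∃ e, Cross ends S e := by
      by_contra! hno
      obtain ⟨a, ha⟩ := n1
      obtain ⟨b', hb⟩ := n2
      have : ∀ v, Relation.ReflTransGen (LabGraph.Adj ends) a v → v ∈ S := by
        intro v hv
        induction hv with
        | refl => exact ha
        | tail _ hh ih =>
          obtain ⟨f, hf⟩ := hh
          have := hno f
          rcases hf with hf | hf <;> simp [Cross, hf] at this <;> tauto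
      exact mem_compl.1 hb (this b' (hconn.2 a b'))
    obtain ⟨T, hT, heT, hcr, d1, d2⟩ := exists_tree n1 c1 c2 he
    obtain ⟨m, ⟨htot, hst⟩, -⟩ := existsUnique_stable T hT b φ₁ h₁ hnd
    have hpS : S ≠ univ := (elementary_proper hS).2
    have a1 := hst S n1 hpS
    have a2 := hst Sᶜ n2 (fun h => n1.ne_empty (compl_eq_univ_iff _ |>.1 h))
    rw [← sub_pos, ← F_eq, F_tree] at a2
    have a1' := a1
    rw [← sub_pos, ← F_eq, F_tree] at a1'
    have h0 : F ends T ∅ (fun v => (m v : ℝ) - psi ends φ₁ T v) univ = 0 := by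
      rw [← F_tree, F_univ, htot, h₁, sub_self]
    have h0' : ∑ v, ((m v : ℝ) - psi ends φ₁ T v) = 0 := by simpa [F, gTerm, Cross] using h0
    rw [← sum_add_sum_compl S] at h0'
    rw [F_single _ _ heT (cross_compl hcr)] at a2
    have e1 := (F_eq (ends := ends) φ₁ m Tᶜ S).symm.trans ((F_tree φ₁ m T S).trans (F_single _ _ heT hcr))
    have hlt : ((PhiStab.degOn ends m Tᶜ S : ℤ) : ℝ) < (d : ℝ) + 1 := by
      simp only [PhiStab.ell] at hd; linarith
    have hle : PhiStab.degOn ends m Tᶜ S ≤ d := by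
      have : PhiStab.degOn ends m Tᶜ S < d + 1 := by exact_mod_cast hlt
      omega
    have := h m Tᶜ htot hst S n1 hpS
    have hle' : ((PhiStab.degOn ends m Tᶜ S : ℤ) : ℝ) ≤ (d : ℝ) := by exact_mod_cast hle
    simp only [PhiStab.ell]; linarith
  · intro h m N htot hst
    refine (semistable_iff_elementary hconn φ₂ m N (by rw [h₂, htot])).1.2 fun S hS => ?_
    have := h S hS (PhiStab.degOn ends m N S) (by
      have := hst S (elementary_proper hS).1 (elementary_proper hS).2
      simp only [PhiStab.ell]; linarith)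
    simp only [PhiStab.ell] at this; linarith

theorem existsUnique_sideSum (hT : DualGr.IsTree ends) (c : E → ℝ) (c₀ : ℝ) :
    ∃! φ : V → ℝ, (∀ e : E, (∑ v ∈ PhiStab.side ends e, φ v) = c e) ∧ (∑ v : V, φ v) = c₀ := by
  have hA := isTree_iff.1 hT
  simp only [side_eq]
  refine ⟨sol ends univ c c₀, ⟨fun e => sol_side hA c c₀ (mem_univ e), sol_total hA c c₀⟩, fun ψ hψ => ?_⟩
  exact eq_of_sums hA (fun e he => (hψ.1 e).trans (sol_side hA c c₀ he).symm) (hψ.2.trans (sol_total hA c c₀).symm)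

end Bridge

end Groth.Agent.H98.Graph
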