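import Mathlib

universe u

namespace Groth.Agent.H98

open Finset Matrix

theorem det_mul_eq_sum_minors {R : Type u} [CommRing R] {e r : ℕ} (A : Matrix (Fin e) (Fin r) R)
    (N : Matrix (Fin r) (Fin e) R) :
    (A * N).det = ∑ S : {s : Finset (Fin r) // s.card = e},
      (A.submatrix id (S.1.orderEmbOfFin S.2)).det * (N.submatrix (S.1.orderEmbOfFin S.2) id).det := by
  classical
  have h0 : (A * N).det = ∑ p : Fin e → Fin r, (∏ i, A i (p i)) * (N.submatrix p id).det := by
    have e1 : A * N = fun i => ∑ k, A i k • N k := by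
      funext i j; simp [Matrix.mul_apply, Finset.sum_apply]
    rw [e1]
    refine ((Matrix.detRowAlternating (R := R) (n := Fin e)).toMultilinearMap.map_sum (fun i k => A i k • N k)).trans ?_
    refine Finset.sum_congr rfl fun p _ => ?_
    exact (Matrix.detRowAlternating (R := R) (n := Fin e)).toMultilinearMap.map_smul_univ (fun i => A i (p i)) (fun i => N (p i))
  rw [h0]
  let g : ({s : Finset (Fin r) // s.card = e} × Equiv.Perm (Fin e)) → (Fin e → Fin r) :=
    fun x => x.1.1.orderEmbOfFin x.1.2 ∘ x.2
  have ginj : Function.Injective g := by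
    rintro ⟨⟨s, hs⟩, σ⟩ ⟨⟨t, ht⟩, τ⟩ h
    have hst : s = t := by
      have := congrArg Set.range h
      simp only [g, EquivLike.range_comp, Finset.range_orderEmbOfFin, Finset.coe_inj] at this
      exact this
    subst hst
    have : σ = τ := Equiv.ext fun i => (s.orderEmbOfFin hs).injective (congrFun h i)
    rw [this]
  rw [← Fintype.sum_of_injective g ginj
    (fun x => (∏ i, A i (g x i)) * (N.submatrix (g x) id).det) _ ?_ (fun x => rfl), Fintype.sum_prod_type]
  · refine Finset.sum_congr rfl fun S _ => ?_
    conv_rhs => rw [← Matrix.det_transpose (A.submatrix _ _), Matrix.det_apply', Finset.sum_mul]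
    refine Finset.sum_congr rfl fun σ _ => ?_
    rw [show N.submatrix (g (S, σ)) id = (N.submatrix (S.1.orderEmbOfFin S.2) id).submatrix σ id from rfl,
      Matrix.det_permute]
    simp only [g, Function.comp_apply, Matrix.transpose_apply, Matrix.submatrix_apply, id_eq]
    ring
  · intro p hp
    by_cases hinj : Function.Injective p
    · exfalso
      apply hp
      have hc : (Finset.univ.image p).card = e := by
        rw [Finset.card_image_of_injective _ hinj]; simp
      let q : Fin e → Fin e := fun i =>
        ((Finset.univ.image p).orderIsoOfFin hc).symm ⟨p i, Finset.mem_image_of_mem p (Finset.mem_univ i)⟩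
      have qinj : Function.Injective q := fun a b h => hinj (by simpa [q] using h)
      refine ⟨(⟨_, hc⟩, Equiv.ofBijective q (Finite.injective_iff_bijective.1 qinj)), funext fun i => ?_⟩
      simp [g, q, ← Finset.coe_orderIsoOfFin_apply]
    · obtain ⟨a, b, hab, hne⟩ := Function.not_injective_iff.1 hinj
      rw [Matrix.det_zero_of_row_eq hne (by funext j; simp [hab]), mul_zero]

theorem iSup_span_minors {R : Type u} [CommRing R] (e r n : ℕ)
    (M : Matrix (Fin r) (Fin n) R)
    (A : {s : Finset (Fin r) // s.card = e} → Matrix (Fin e) (Fin r) R)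
    (hA : IsUnit (Matrix.det (Matrix.of fun i j : {s : Finset (Fin r) // s.card = e} =>
      ((A i).submatrix id (j.1.orderEmbOfFin j.2)).det))) :
    (⨆ i, Ideal.span (Set.range fun t : {s : Finset (Fin n) // s.card = e} =>
        ((A i * M).submatrix id (t.1.orderEmbOfFin t.2)).det)) =
      Ideal.span (Set.range fun p : {s : Finset (Fin r) // s.card = e} × {s : Finset (Fin n) // s.card = e} =>
        (M.submatrix (p.1.1.orderEmbOfFin p.1.2) (p.2.1.orderEmbOfFin p.2.2)).det) := by
  classical
  set J := Ideal.span (Set.range fun p : {s : Finset (Fin r) // s.card = e} × {s : Finset (Fin n) // s.card = e} =>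
        (M.submatrix (p.1.1.orderEmbOfFin p.1.2) (p.2.1.orderEmbOfFin p.2.2)).det)
  set W : Matrix {s : Finset (Fin r) // s.card = e} {s : Finset (Fin r) // s.card = e} R :=
    Matrix.of fun i j => ((A i).submatrix id (j.1.orderEmbOfFin j.2)).det
  set v : {s : Finset (Fin n) // s.card = e} → {s : Finset (Fin r) // s.card = e} → R := fun t S =>
    (M.submatrix (S.1.orderEmbOfFin S.2) (t.1.orderEmbOfFin t.2)).det
  have key : ∀ i (t : {s : Finset (Fin n) // s.card = e}),
      ((A i * M).submatrix id (t.1.orderEmbOfFin t.2)).det = (W *ᵥ v t) i := by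
    intro i t
    rw [show (A i * M).submatrix id (t.1.orderEmbOfFin t.2) = A i * M.submatrix id (t.1.orderEmbOfFin t.2) from rfl,
      det_mul_eq_sum_minors]
    rfl
  refine le_antisymm (iSup_le fun i => Ideal.span_le.2 ?_) (Ideal.span_le.2 ?_)
  · rintro _ ⟨t, rfl⟩
    simp only [SetLike.mem_coe, key]
    simp only [Matrix.mulVec, dotProduct]
    exact sum_mem fun S _ => J.mul_mem_left _ (Ideal.subset_span ⟨(S, t), rfl⟩)
  · rintro _ ⟨⟨S, t⟩, rfl⟩
    change v t S ∈ _
    have : v t S = (W⁻¹ *ᵥ (W *ᵥ v t)) S := by rw [Matrix.mulVec_mulVec, Matrix.nonsing_inv_mul _ hA, Matrix.one_mulVec]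
    rw [this, SetLike.mem_coe]
    change ∑ i, W⁻¹ S i * (W *ᵥ v t) i ∈ _
    refine sum_mem fun i _ => Ideal.mul_mem_left _ _ ?_
    rw [← key]
    exact (le_iSup (fun i => Ideal.span (Set.range fun t : {s : Finset (Fin n) // s.card = e} =>
      ((A i * M).submatrix id (t.1.orderEmbOfFin t.2)).det)) i) (Ideal.subset_span ⟨t, rfl⟩)

end Groth.Agent.H98
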