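import Groth.Agent.UH57.Basic
import Mathlib.FieldTheory.PurelyInseparable.Basic
import Mathlib.RingTheory.DiscreteValuationRing.Basic
import Mathlib

universe u
open CategoryTheory AlgebraicGeometry

namespace Groth.Agent.H98

theorem isUnivHomeo_of_purelyInseparable
    (R S K L : Type u) [CommRing R] [IsDomain R] [IsIntegrallyClosed R]
    [CommRing S] [IsDomain S] [Algebra R S] [Algebra.IsIntegral R S] [FaithfulSMul R S]
    [Field K] [Field L] [Algebra R K] [IsFractionRing R K] [Algebra S L] [IsFractionRing S L]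
    [Algebra K L] [Algebra R L] [IsScalarTower R S L] [IsScalarTower R K L] [IsPurelyInseparable K L] :
    FlatMor.IsUnivHomeo (Spec.map (CommRingCat.ofHom (algebraMap R S))) := by
  set q := ringExpChar K
  have hpow : ∀ s : S, ∃ (n : ℕ) (a : R), algebraMap R S a = s ^ q ^ n := by
    intro s
    obtain ⟨n, c, hc⟩ := IsPurelyInseparable.pow_mem K q (algebraMap S L s)
    have hint : IsIntegral R (algebraMap K L c) := by
      rw [hc, ← map_pow]
      exact ((Algebra.IsIntegral.isIntegral (R := R) s).pow _).map (IsScalarTower.toAlgHom R S L)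
    have : IsIntegral R c := (isIntegral_algHom_iff (IsScalarTower.toAlgHom R K L) (algebraMap K L).injective).1 hint
    obtain ⟨a, rfl⟩ := IsIntegrallyClosed.isIntegral_iff.1 this
    refine ⟨n, a, IsFractionRing.injective S L ?_⟩
    rw [map_pow, ← hc, ← IsScalarTower.algebraMap_apply, ← IsScalarTower.algebraMap_apply]
  have hqpos : ∀ n, 0 < q ^ n := fun n => pow_pos (expChar_pos K q) n
  rw [UH57.isUnivHomeo_iff]
  refine ⟨inferInstance, ⟨?_, ?_⟩, ?_⟩
  · intro P P' h
    ext s
    obtain ⟨n, a, ha⟩ := hpow s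
    rw [← P.2.pow_mem_iff_mem _ (hqpos n), ← P'.2.pow_mem_iff_mem _ (hqpos n), ← ha]
    rw [PrimeSpectrum.ext_iff, SetLike.ext_iff] at h
    exact h a
  · intro Q hQ b
    have h1 : algebraMap R S 1 ∉ Q := by rw [map_one]; exact fun h => hQ.ne_top ((Q.eq_top_iff_one).2 h)
    obtain ⟨n, a, ha⟩ := hpow b
    have hq : ∀ q, ExpChar K q → q = 1 ∨ (q.Prime ∧ (q : K) = 0) := by
      intro q h
      cases h with
      | zero => exact Or.inl rfl
      | prime hp => exact Or.inr ⟨hp, CharP.cast_eq_zero K q⟩
    rcases hq q inferInstance with hq1 | ⟨hp, hq0⟩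
    · refine ⟨a, 1, h1, Or.inl ?_⟩
      rw [ha, hq1, one_pow, pow_one, map_one, one_mul, sub_self]; exact zero_mem _
    · refine ⟨a, 1, h1, Or.inr ⟨q, n, hp, ?_, ?_⟩⟩
      · have : (q : R) = 0 := IsFractionRing.injective R K (by simp [hq0])
        have h2 : (q : S) = 0 := by rw [← map_natCast (algebraMap R S), this, map_zero]
        rw [h2]; exact zero_mem _
      · rw [ha, map_one, one_mul, sub_self]; exact zero_mem _
  · rw [(RingHom.injective_iff_ker_eq_bot _).1 (FaithfulSMul.algebraMap_injective R S)]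
    exact bot_le

end Groth.Agent.H98
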