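import Groth.Prelude.Def_W4c5stcicurvesp3Euclid
import Mathlib

namespace Groth.Agent.H98

open W4c5stcicurvesp3

theorem div_mul_gcd_le_sub (k N : ℕ) (hk : 0 < k) (hkN : k < N) (hndvd : ¬ k ∣ N) :
    N / k * Nat.gcd k N ≤ N - k := by
  have hg := Nat.gcd_pos_of_pos_left N hk
  obtain ⟨a, ha⟩ := Nat.gcd_dvd_left k N
  have h2 : 2 ≤ a := by
    rcases a with _ | _ | a
    · simp at ha; omega
    · simp at ha; exact absurd (ha ▸ Nat.gcd_dvd_right k N) hndvd
    · omega
  have hr : Nat.gcd k N ≤ N % k := by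
    refine Nat.le_of_dvd (Nat.pos_of_ne_zero fun h => hndvd (Nat.dvd_of_mod_eq_zero h)) ?_
    exact (Nat.dvd_mod_iff (Nat.gcd_dvd_left k N)).2 (Nat.gcd_dvd_right k N)
  have hq : 1 ≤ N / k := (Nat.one_le_div_iff hk).2 hkN.le
  have hN := Nat.div_add_mod N k
  have hk2 : 2 * Nat.gcd k N ≤ k := by
    calc 2 * Nat.gcd k N ≤ a * Nat.gcd k N := Nat.mul_le_mul_right _ h2
    _ = k := by rw [mul_comm]; exact ha.symm
  rcases eq_or_lt_of_le hq with h | h
  · rw [← h] at hN ⊢; simp at hN ⊢; omega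
  · have : (N / k) * Nat.gcd k N + k ≤ k * (N / k) + N % k := by nlinarith
    omega

theorem irem_shift (a b : ℕ) (h : a % b ≠ 0) : ∀ n, irem a b (n + 1) = irem b (a % b) n := by
  intro n
  induction n using Nat.strong_induction_on with
  | _ n ih =>
    match n with
    | 0 => simp [irem]
    | 1 => simp [irem, h]
    | n + 2 =>
      rw [irem, ih (n+1) (by omega), ih n (by omega)]
      conv_rhs => rw [irem]

theorem idiv_shift (a b : ℕ) (h : a % b ≠ 0) (n : ℕ) : idiv a b (n + 2) = idiv b (a % b) (n + 1) := by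
  rcases n with _ | n
  · simp [idiv, irem, h]
  · rw [idiv, irem_shift a b h, irem_shift a b h]
    conv_rhs => rw [idiv]

theorem sum_Icc_shift (f : ℕ → ℕ) (t : ℕ) :
    ∑ i ∈ Finset.Icc 1 (t + 1), f i = f 1 + ∑ i ∈ Finset.Icc 1 t, f (i + 1) := by
  induction t with
  | zero => simp
  | succ t ih => rw [Finset.sum_Icc_succ_top (by omega), ih, Finset.sum_Icc_succ_top (by omega)]; ring

theorem sum_idiv_mul_gcd_le (k N t : ℕ) (hk : 0 < k) (hkN : k ≤ N) (ht : 0 < t)
    (hzero : irem N k t = 0) (hmin : ∀ i, 0 < i → i < t → irem N k i ≠ 0) :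
    (∑ i ∈ Finset.Icc 1 t, idiv N k i) * Nat.gcd k N ≤ N := by
  induction t generalizing k N with
  | zero => omega
  | succ t ih =>
    rcases Nat.eq_zero_or_pos t with rfl | htp
    · simp only [irem, zero_add] at hzero
      simp [idiv]
      calc N / k * Nat.gcd k N ≤ N / k * k := Nat.mul_le_mul_left _ (Nat.le_of_dvd hk (Nat.gcd_dvd_left _ _))
        _ ≤ N := Nat.div_mul_le_self _ _
    · have h1 : N % k ≠ 0 := by simpa [irem] using hmin 1 (by omega) (by omega)
      have hlt : k < N := lt_of_le_of_ne hkN (fun h => h1 (by subst h; simp))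
      have hnd : ¬ k ∣ N := fun h => h1 (Nat.mod_eq_zero_of_dvd h)
      have A := ih (N % k) k (Nat.pos_of_ne_zero h1) (Nat.mod_lt _ hk).le htp
        (by rw [← irem_shift N k h1]; exact hzero)
        (fun i hi hit => by rw [← irem_shift N k h1]; exact hmin _ (by omega) (by omega))
      have B := div_mul_gcd_le_sub k N hk hlt hnd
      have hs : ∑ i ∈ Finset.Icc 1 t, idiv N k (i + 1) = ∑ i ∈ Finset.Icc 1 t, idiv k (N % k) i := by
        refine Finset.sum_congr rfl fun i hi => ?_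
        obtain ⟨hi, -⟩ := Finset.mem_Icc.1 hi
        obtain ⟨j, rfl⟩ : ∃ j, i = j + 1 := ⟨i - 1, by omega⟩
        exact idiv_shift N k h1 j
      have hgg : Nat.gcd (N % k) k = Nat.gcd k N := (Nat.gcd_rec k N).symm
      rw [sum_Icc_shift, hs, add_mul, show idiv N k 1 = N / k from rfl]
      rw [hgg] at A
      omega

theorem three_step_aux (a b x y : ℚ) (ha : 2 ≤ a) (hb : b = 1 ∨ 2 ≤ b) (hx : 0 < x) (hy : 0 ≤ y) :
    (b * x + y - x) / a + (x - y) / (a + b) + y / (a + b + 1) ≤ (b * x + y) ^ 2 / (a * (b * x + y) + x) := by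
  have hb' : 1 ≤ b := by rcases hb with h | h <;> linarith
  have e1 : 0 < a + b := by linarith
  have e2 : 0 < a + b + 1 := by linarith
  have e3 : 0 < a * (b * x + y) + x := by positivity
  have key : (b * x + y) * x * (a + b) * (a + b + 1) ≤ (x * b * (a + b + 1) + y * a) * (a * (b * x + y) + x) := by
    have c2 : 0 ≤ b * (a + b + 1) * ((a - 1) * (b - 1)) := mul_nonneg (by positivity) (mul_nonneg (by linarith) (by linarith))
    have c1 : 0 ≤ (a + b + 1) * (a * b - a - b) + a ^ 2 * b + a := by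
      rcases hb with h | h
      · subst h; nlinarith
      · have : 0 ≤ a * b - a - b := by nlinarith [mul_nonneg (sub_nonneg.2 ha) (sub_nonneg.2 h)]
        positivity
    nlinarith [mul_nonneg c2 (sq_nonneg x), mul_nonneg c1 (mul_nonneg hx.le hy), mul_nonneg (sq_nonneg a) (sq_nonneg y)]
  have : (b * x + y) ^ 2 / (a * (b * x + y) + x) - ((b * x + y - x) / a + (x - y) / (a + b) + y / (a + b + 1)) =
      ((x * b * (a + b + 1) + y * a) * (a * (b * x + y) + x) - (b * x + y) * x * (a + b) * (a + b + 1)) / (a * (a+b) * (a+b+1) * (a * (b * x + y) + x)) := by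
    field_simp
    ring
  have h0 : 0 ≤ ((x * b * (a + b + 1) + y * a) * (a * (b * x + y) + x) - (b * x + y) * x * (a + b) * (a + b + 1)) / (a * (a+b) * (a+b+1) * (a * (b * x + y) + x)) :=
    div_nonneg (sub_nonneg.2 key) (by positivity)
  linarith

theorem three_step (k N : ℕ) (hk : 0 < k) (hkN : 2 * k ≤ N) (h1 : irem N k 1 ≠ 0) :
    ((irem N k 0 : ℚ) - irem N k 1) / (idiv N k 1)
      + ((irem N k 1 : ℚ) - irem N k 2) / ((idiv N k 1 : ℚ) + idiv N k 2)
      + (irem N k 2 : ℚ) / ((idiv N k 1 : ℚ) + idiv N k 2 + 1)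
      ≤ (k : ℚ) ^ 2 / N := by
  have h1' : N % k ≠ 0 := by simpa [irem] using h1
  simp only [irem, idiv, zero_add, h1', if_false]
  have hlt := Nat.mod_lt N hk
  have ha : 2 ≤ N / k := (Nat.le_div_iff_mul_le hk).2 hkN
  have hb : 1 ≤ k / (N % k) := (Nat.one_le_div_iff (Nat.pos_of_ne_zero h1')).2 hlt.le
  have := three_step_aux ((N / k : ℕ)) ((k / (N % k) : ℕ)) ((N % k : ℕ)) ((k % (N % k) : ℕ))
    (by exact_mod_cast ha) (by
      rcases eq_or_lt_of_le hb with h | h
      · left; rw [← h]; simp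
      · right; exact_mod_cast h) (by exact_mod_cast Nat.pos_of_ne_zero h1') (by positivity)
  have e1 : ((k / (N % k) : ℕ) : ℚ) * ((N % k : ℕ) : ℚ) + ((k % (N % k) : ℕ) : ℚ) = k := by
    exact_mod_cast Nat.div_add_mod' k (N % k)
  have e2 : ((N / k : ℕ) : ℚ) * k + ((N % k : ℕ) : ℚ) = N := by exact_mod_cast Nat.div_add_mod' N k
  rw [e1, e2] at this
  exact this

theorem irem_zero_mono (a b : ℕ) : ∀ n, irem a b (n + 1) = 0 → irem a b (n + 2) = 0 := by
  intro n h; rw [irem, if_pos h]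

theorem irem_succ_le (a b : ℕ) (hb : 0 < b) : ∀ n, irem a b (n + 1) ≤ irem a b n := by
  intro n
  rcases n with _ | n
  · exact (Nat.mod_lt a hb).le
  · rw [irem]; split
    · exact Nat.zero_le _
    · exact (Nat.mod_lt _ (Nat.pos_of_ne_zero ‹_›)).le

theorem telescoping (k N t : ℕ) (hk : 0 < k) (hkN : 2 * k ≤ N) (ht : 0 < t)
    (hzero : irem N k t = 0) (hmin : ∀ i, 0 < i → i < t → irem N k i ≠ 0) :
    ∑ i ∈ Finset.range t, ((irem N k i : ℚ) - irem N k (i + 1)) / (∑ j ∈ Finset.Icc 1 (i + 1), (idiv N k j : ℚ))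
      ≤ (k : ℚ) ^ 2 / N := by
  rcases t with _ | _ | t
  · omega
  · simp only [zero_add] at hzero
    simp only [zero_add, Finset.sum_range_one, Finset.Icc_self, Finset.sum_singleton, hzero]
    have h : N % k = 0 := by simpa [irem] using hzero
    have e : ((N / k : ℕ) : ℚ) * k = N := by exact_mod_cast Nat.div_mul_cancel (Nat.dvd_of_mod_eq_zero h)
    simp only [irem, idiv, Nat.cast_zero, sub_zero]
    rw [← e]
    have : (0:ℚ) < (k:ℚ) := by exact_mod_cast hk
    rw [pow_two, mul_div_mul_right _ _ this.ne']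
  · have h1 := hmin 1 (by omega) (by omega)
    have T := three_step k N hk hkN h1
    rw [Finset.sum_range_succ', Finset.sum_range_succ']
    have s1 : ∑ j ∈ Finset.Icc 1 (0 + 1), (idiv N k j : ℚ) = idiv N k 1 := by simp
    have s2 : ∑ j ∈ Finset.Icc 1 (0 + 1 + 1), (idiv N k j : ℚ) = (idiv N k 1 : ℚ) + idiv N k 2 := by
      rw [Finset.sum_Icc_succ_top (by omega)]; simp
    rw [s1, s2]
    simp only [zero_add] at *
    set D : ℚ := (idiv N k 1 : ℚ) + idiv N k 2 + 1 with hD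
    have hb : ∀ i ∈ Finset.range t, ((irem N k (i + 1 + 1) : ℚ) - irem N k (i + 1 + 1 + 1)) / (∑ j ∈ Finset.Icc 1 (i + 1 + 1 + 1), (idiv N k j : ℚ)) ≤ ((irem N k (i + 2) : ℚ) - irem N k (i + 1 + 2)) / D := by
      intro i hi
      have hnum : (0:ℚ) ≤ (irem N k (i + 1 + 1) : ℚ) - irem N k (i + 1 + 1 + 1) := by
        have := irem_succ_le N k hk (i + 2); rw [sub_nonneg]; exact_mod_cast this
      apply div_le_div_of_nonneg_left hnum (by rw [hD]; positivity)
      have h3 : 1 ≤ idiv N k 3 := by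
        have := hmin 2 (by omega) (by simp at hi; omega)
        rw [idiv, if_neg this, Nat.one_le_div_iff (Nat.pos_of_ne_zero this)]
        exact irem_succ_le N k hk 1
      calc D ≤ ∑ j ∈ Finset.Icc 1 3, (idiv N k j : ℚ) := by
            rw [hD, Finset.sum_Icc_succ_top (by omega : 1 ≤ 2 + 1), Finset.sum_Icc_succ_top (by omega : 1 ≤ 1 + 1), Finset.Icc_self, Finset.sum_singleton]
            have : (1:ℚ) ≤ idiv N k 3 := by exact_mod_cast h3
            norm_num; linarith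
        _ ≤ _ := Finset.sum_le_sum_of_subset_of_nonneg (Finset.Icc_subset_Icc le_rfl (by omega)) (fun j _ _ => by positivity)
    have tele : ∑ i ∈ Finset.range t, ((irem N k (i + 2) : ℚ) - irem N k (i + 1 + 2)) / D = (irem N k 2 : ℚ) / D := by
      rw [← Finset.sum_div]
      congr 1
      rw [Finset.sum_range_sub' (fun i => (irem N k (i + 2) : ℚ))]
      simp [hzero]
    have := (Finset.sum_le_sum hb).trans_eq tele
    linarith

theorem weight_bound (p : ℕ → ℕ) (m : ℕ) (c : ℝ)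
    (hc : ∀ k, m ≤ k → 1 ≤ c * (((k : ℝ) + 1) * ((k : ℝ) + 2))) (hm : m ≤ 20) :
      (∑ k ∈ Finset.range 20, (p k : ℝ) / (((k : ℝ) + 1) * ((k : ℝ) + 2))) ≤
        (∑ k ∈ Finset.range m, (p k : ℝ) / (((k : ℝ) + 1) * ((k : ℝ) + 2))) + c * (∑ k ∈ Finset.Ico m 20, (p k : ℝ)) := by
  rw [← Finset.sum_range_add_sum_Ico _ hm, Finset.mul_sum]
  gcongr with k hk
  rw [div_le_iff₀ (by positivity)]
  have := mul_le_mul_of_nonneg_left (hc k (Finset.mem_Ico.1 hk).1) (Nat.cast_nonneg (α := ℝ) (p k))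
  linarith

theorem weight_two (k : ℕ) (h : 2 ≤ k) : (1:ℝ) ≤ 1 / 12 * (((k : ℝ) + 1) * ((k : ℝ) + 2)) := by
  have : (2 : ℝ) ≤ k := by exact_mod_cast h
  nlinarith

theorem weight_three (k : ℕ) (h : 3 ≤ k) : (1:ℝ) ≤ 1 / 20 * (((k : ℝ) + 1) * ((k : ℝ) + 2)) := by
  have : (3 : ℝ) ≤ k := by exact_mod_cast h
  nlinarith

theorem antitone_seq (p : ℕ → ℕ) (n : ℕ)
    (h1 : (p 0 : ℝ) ≤ 9 - (2 / 5 : ℝ) * n) (h2 : Antitone p)
    (h3 : ∀ m : ℕ, ((∑ k ∈ Finset.range m, p k : ℕ) : ℝ) ≤ 19 - (n : ℝ))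
    (h4 : (6 : ℝ) ≤ (n : ℝ) / 4 + ∑' k : ℕ, (p k : ℝ) / (((k : ℝ) + 1) * ((k : ℝ) + 2))) :
    n = 0 ∧ (p = (fun k => if k = 0 then 9 else if k = 1 then 8 else if k = 2 then 2 else 0)
      ∨ p = (fun k => if k = 0 then 9 else if k = 1 then 9 else 0)
      ∨ p = (fun k => if k = 0 then 9 else if k = 1 then 9 else if k = 2 then 1 else 0)) := by
  have h3' : ∀ m, (∑ k ∈ Finset.range m, p k) + n ≤ 19 := by
    intro m
    have := h3 m
    have : (((∑ k ∈ Finset.range m, p k) + n : ℕ) : ℝ) ≤ ((19 : ℕ) : ℝ) := by push_cast at this ⊢; linarith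
    exact_mod_cast this
  have hz : ∀ k, 19 ≤ k → p k = 0 := by
    intro k hk
    by_contra hne
    have : ∑ i ∈ Finset.range (k + 1), 1 ≤ ∑ i ∈ Finset.range (k + 1), p i :=
      Finset.sum_le_sum fun i hi => by
        have := h2 (show i ≤ k by simp at hi; omega); omega
    have := h3' (k + 1)
    simp at *
    omega
  rw [tsum_eq_sum (s := Finset.range 20) (fun k hk => by rw [hz k (by simp at hk; omega)]; simp)] at h4
  have hS := h3' 20
  have hSR : (∑ k ∈ Finset.range 20, (p k : ℝ)) + n ≤ 19 := by exact_mod_cast hS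
  have hb := weight_bound p
  have hsplit : ∀ m, m ≤ 20 → (∑ k ∈ Finset.range m, (p k : ℝ)) + (∑ k ∈ Finset.Ico m 20, (p k : ℝ)) + n ≤ 19 := by
    intro m hm; rw [Finset.sum_range_add_sum_Ico _ hm]; exact hSR
  have b2 := hb 2 (1 / 12) weight_two (by norm_num)
  have s2 := hsplit 2 (by norm_num)
  simp only [Finset.sum_range_succ (n := 1), Finset.sum_range_one] at b2 s2
  have p10 : (p 1 : ℝ) ≤ p 0 := by exact_mod_cast h2 (show 0 ≤ 1 by norm_num)
  norm_num at b2
  have p0le : 5 * p 0 + 2 * n ≤ 45 := by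
    have : ((5 * p 0 + 2 * n : ℕ) : ℝ) ≤ ((45 : ℕ) : ℝ) := by push_cast; linarith
    exact_mod_cast this
  have key : 53 ≤ 6 * p 0 + 2 * n := by
    have : ((53 : ℕ) : ℝ) ≤ ((6 * p 0 + 2 * n : ℕ) : ℝ) := by push_cast; linarith
    exact_mod_cast this
  have hn : n = 0 := by omega
  have hp0 : p 0 = 9 := by omega
  subst hn
  have b3 := hb 3 (1 / 20) weight_three (by norm_num)
  have s3 := hsplit 3 (by norm_num)
  simp only [Finset.sum_range_succ (n := 2), Finset.sum_range_succ (n := 1), Finset.sum_range_one, hp0] at b3 s3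
  norm_num at b3 h4 s3
  have key3 : 60 ≤ 7 * p 1 + 2 * p 2 := by
    have : ((60 : ℕ) : ℝ) ≤ ((7 * p 1 + 2 * p 2 : ℕ) : ℝ) := by push_cast; linarith
    exact_mod_cast this
  have hp1 : p 1 ≤ 9 := hp0 ▸ h2 (show 0 ≤ 1 by norm_num)
  have hsum3 := h3' 3
  simp only [Finset.sum_range_succ, Finset.sum_range_zero, hp0] at hsum3
  have rest : p 3 = 0 := by
    have := h3' 4
    simp only [Finset.sum_range_succ, Finset.sum_range_zero, hp0] at this
    have := h2 (show 2 ≤ 3 by norm_num)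
    omega
  refine ⟨rfl, ?_⟩
  have ext' : ∀ q : ℕ → ℕ, q 0 = 9 → q 1 = p 1 → q 2 = p 2 → (∀ k, q (k + 3) = 0) → p = q := by
    intro q a b c e
    funext k
    match k with
    | 0 => rw [a, hp0]
    | 1 => rw [b]
    | 2 => rw [c]
    | k + 3 => rw [e]; have := h2 (show 3 ≤ k + 3 by omega); omega
  have : (p 1 = 8 ∧ p 2 = 2) ∨ (p 1 = 9 ∧ p 2 = 0) ∨ (p 1 = 9 ∧ p 2 = 1) := by omega
  rcases this with ⟨a, b⟩ | ⟨a, b⟩ | ⟨a, b⟩
  · exact Or.inl (ext' _ (by simp) (by simp [a]) (by simp [b]) (by simp))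
  · exact Or.inr (Or.inl (ext' _ (by simp) (by simp [a]) (by simp [b]) (by simp)))
  · exact Or.inr (Or.inr (ext' _ (by simp) (by simp [a]) (by simp [b]) (by simp)))

theorem deg_le_genus (s t d g n : ℤ) (hs : 4 ≤ s) (hst : s ≤ t) (hd : 1 ≤ d) (hg : 0 ≤ g)
    (hn : s * t = d * n) (hn2 : 2 ≤ n)
    (hr : 3 * (d * (n * (s - 4) + t) + (2 - 2 * g) * n) ≤ s * (2 * s ^ 2 - 6 * s + 7) - 3) :
    d ≤ g + 3 := by
  by_contra hcon
  have hd4 : g + 4 ≤ d := by omega
  have hn0 : 0 ≤ n := by omega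
  have lb : 3 * (s * t * (s - 6) + (d * t + 10 * n)) ≤ s * (2 * s ^ 2 - 6 * s + 7) - 3 := by
    have e : d * (n * (s - 4) + t) = s * t * (s - 4) + d * t := by rw [hn]; ring
    have e2 : d * n = s * t := hn.symm
    nlinarith [mul_le_mul_of_nonneg_right hd4 hn0]
  have hsq : ∀ c : ℤ, 0 ≤ c → c ^ 2 ≤ 40 * s → c * t ≤ d * t + 10 * n := by
    intro c hc hc2
    have hdn : 0 ≤ d * t + 10 * n := by
      have : 0 ≤ d * t := mul_nonneg (by omega) (by omega)
      omega
    refine abs_le_abs_of_nonneg_aux hdn ?_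
    nlinarith [sq_nonneg (d * t - 10 * n), mul_le_mul_of_nonneg_right hc2 (sq_nonneg t)]
  rcases (show s = 4 ∨ s = 5 ∨ 6 ≤ s by omega) with rfl | rfl | h6
  · by_cases ht : t = 4
    · subst ht
      have : d ≤ 12 := by linarith
      have : n ≤ 4 := by linarith
      interval_cases n <;> omega
    · have := hsq 12 (by norm_num) (by norm_num)
      omega
  · have := hsq 14 (by norm_num) (by norm_num)
    omega
  · have := hsq 15 (by norm_num) (by nlinarith)
    have : 0 < s * (s ^ 2 - 12 * s + 38) + 3 := by nlinarith [sq_nonneg (s - 6)]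
    have : 0 ≤ (t - s) * (s * (s - 6) + 15) := mul_nonneg (by omega) (by nlinarith)
    nlinarith
where
  abs_le_abs_of_nonneg_aux {a b : ℤ} (hb : 0 ≤ b) (h : a ^ 2 ≤ b ^ 2) : a ≤ b := by nlinarith

theorem degrees_lt (d g s t n : ℤ) (hd : 1 ≤ d) (hg : 0 ≤ g) (hs : 1 ≤ s) (hst : s ≤ t)
    (hn : s * t = d * n) (hn2 : 2 ≤ n)
    (hpos : 0 < d * (n * (s - 4) + t) + (2 - 2 * g) * n)
    (hdvd : (n - 1) ∣ d * (n * (s - 4) + t) + (2 - 2 * g) * n) :
    s < 2 * d ^ 2 ∧ t < 2 * d ^ 4 := by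
  set E := d * (s + t - 4) + 2 - 2 * g with hE
  have hEd : (n - 1) ∣ E := by
    have : d * (n * (s - 4) + t) + (2 - 2 * g) * n = E + (n - 1) * (d * (s - 4) + 2 - 2 * g) := by rw [hE]; ring
    rw [this] at hdvd
    exact (dvd_add_left (dvd_mul_right _ _)).1 hdvd
  -- bound on g
  have hgb : 2 * g * s < d * (s - 4) * s + d ^ 2 + 2 * s := by
    have hn0 : 0 < n := by omega
    have : 0 < (d * (s - 4) * s + d ^ 2 + 2 * s - 2 * g * s) * n := by
      have e : (d * (s - 4) * s + d ^ 2 + 2 * s - 2 * g * s) * n = s * (d * (n * (s - 4) + t) + (2 - 2 * g) * n) := by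
        linear_combination (-d) * hn
      rw [e]; exact mul_pos (by omega) hpos
    have := pos_of_mul_pos_left this hn0.le
    linarith
  have ht0 : 0 < t := by omega
  have hs' : s < 2 * d ^ 2 := by
    by_contra hc
    push Not at hc
    have hEp : 0 < E := by
      have : 0 < E * s := by
        rw [hE]
        have : d ^ 2 < d * t * s := by
          have : d * (2 * d ^ 2) * 1 ≤ d * t * s := mul_le_mul (mul_le_mul_of_nonneg_left (hc.trans hst) (by omega)) hs zero_le_one (by positivity)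
          nlinarith
        nlinarith
      exact pos_of_mul_pos_left this (by omega)
    have hEle := Int.le_of_dvd hEp hEd
    have : 2 * d * t ≤ n := by
      have : d * (2 * d * t) ≤ d * n := by rw [← hn]; nlinarith [mul_le_mul_of_nonneg_right hc ht0.le]
      exact le_of_mul_le_mul_left this (by omega)
    nlinarith [mul_le_mul_of_nonneg_left hst (show (0:ℤ) ≤ d by omega)]
  refine ⟨hs', ?_⟩
  by_contra hc
  push Not at hc
  obtain ⟨m, hm⟩ := hEd
  have hd4 : d ≤ 2 * d ^ 4 - 1 := by nlinarith [one_le_pow₀ (a := d) (n := 3) hd]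
  -- s (ms - d^2) t relation
  have key : t * (m * s - d ^ 2) = d * (d * (s - 4) + 2 - 2 * g + m) := by
    linear_combination (-d) * hm + m * hn + d * hE
  rcases le_or_gt (m * s - d ^ 2) 0 with hj | hj
  · -- contradiction from positivity
    have : d * (m * s - d ^ 2) < t * (m * s - d ^ 2) * s := by
      rw [key]; nlinarith
    have h2 : d ≤ t * s := by nlinarith
    nlinarith
  · set j := m * s - d ^ 2 with hjdef
    have h0 : j * (t * s) ≤ d ^ 2 * s ^ 2 - 4 * d ^ 2 * s + 2 * d * s + d * (d ^ 2 + j) := by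
      have : t * j * s ≤ d * (d * (s - 4) + 2 + m) * s := by
        rw [key]; exact mul_le_mul_of_nonneg_right (mul_le_mul_of_nonneg_left (by omega) (by omega)) (by omega)
      nlinarith [hjdef]
    have conv : d ^ 2 * s ^ 2 + d ^ 3 ≤ 2 * d ^ 4 * s := by
      have hd3 : 0 ≤ 2 * d ^ 4 - d ^ 2 - d ^ 3 := by
        have : d ^ 2 ≤ d ^ 4 := pow_le_pow_right₀ hd (by norm_num)
        have : d ^ 3 ≤ d ^ 4 := pow_le_pow_right₀ hd (by norm_num)
        omega
      nlinarith [mul_nonneg (sq_nonneg d) (mul_nonneg (show (0:ℤ) ≤ s - 1 by omega) (show (0:ℤ) ≤ 2 * d ^ 2 - 1 - s by omega))]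
    have hts : 0 ≤ t * s - d := by nlinarith
    have : t * s - d ≤ j * (t * s - d) := le_mul_of_one_le_left hts hj
    have : t * s - d ≤ (2 * d ^ 4 - 4 * d ^ 2 + 2 * d) * s := by nlinarith
    have hB : 2 * d ≤ t - (2 * d ^ 4 - 4 * d ^ 2 + 2 * d) := by nlinarith
    have : (t - (2 * d ^ 4 - 4 * d ^ 2 + 2 * d)) * 1 ≤ (t - (2 * d ^ 4 - 4 * d ^ 2 + 2 * d)) * s :=
      mul_le_mul_of_nonneg_left hs (by omega)
    nlinarith

end Groth.Agent.H98
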